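import Cfsg.Agent.Lib.MathieuBlocks.Certs
import Cfsg.Agent.Lib.Fusion.MathieuCards

/-!
# Elements of order five in the Mathieu groups on 22 and 24 points
-/

set_option autoImplicit false
set_option linter.unusedSectionVars false
set_option linter.style.haveILetI false

open Cfsg CfsgLib.Golay CfsgLib.M24Cert

open scoped Pointwise

noncomputable section

namespace CfsgLib.MathieuBlocks

theorem pt_zero : pt 0 = (some 0 : GolayPt) := by decide +kernel

theorem pt_last : pt 23 = (none : GolayPt) := by decide +kernel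

theorem mem_M22_iff {g : Equiv.Perm GolayPt} :
    g ∈ Cfsg.Spor.M22 ↔ g ∈ M24 ∧ g none = none ∧ g (some 0) = some 0 := by
  simp [Cfsg.Spor.M22, Cfsg.Spor.M23, Subgroup.mem_inf, Equiv.Perm.smul_def, and_assoc]

theorem m22_le : Cfsg.Spor.M22 ≤ M24 := fun _ h => (mem_M22_iff.1 h).1

/-- An element of order `p` is conjugate to a power of any other when the Sylow subgroups have
order `p`. -/
theorem conj_pow_of_sylow {G : Type*} [Group G] [Finite G] {p : ℕ} [Fact p.Prime]
    (hG : (Nat.card G).factorization p = 1) {x g : G} (hx : orderOf x = p) (hg : orderOf g = p) :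
    ∃ (w : G) (i : ℕ), 0 < i ∧ i < p ∧ g = w * x ^ i * w⁻¹ := by
  have hsyl : ∀ y : G, orderOf y = p → ∃ P : Sylow p G, (P : Subgroup G) = Subgroup.zpowers y := by
    intro y hy
    have hp : IsPGroup p (Subgroup.zpowers y) := IsPGroup.of_card (n := 1) (by rw [Nat.card_zpowers, hy, pow_one])
    obtain ⟨P, hP⟩ := hp.exists_le_sylow
    refine ⟨P, (Subgroup.eq_of_le_of_card_ge hP ?_).symm⟩
    rw [P.card_eq_multiplicity, hG, pow_one, Nat.card_zpowers, hy]
  classical
  obtain ⟨P, hP⟩ := hsyl x hx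
  obtain ⟨Q, hQ⟩ := hsyl g hg
  obtain ⟨w, hw⟩ := MulAction.exists_smul_eq G P Q
  have hmem : g ∈ (Q : Subgroup G) := hQ ▸ Subgroup.mem_zpowers g
  rw [← hw, Sylow.coe_subgroup_smul, hP] at hmem
  obtain ⟨y, hy, he⟩ := Subgroup.mem_map.1 hmem
  rw [mem_zpowers_iff_mem_range_orderOf, hx, Finset.mem_image] at hy
  obtain ⟨i, hi, rfl⟩ := hy
  have he' : w * x ^ i * w⁻¹ = g := by simpa using he
  refine ⟨w, i, Nat.pos_of_ne_zero fun h0 => ?_, Finset.mem_range.1 hi, he'.symm⟩
  rw [h0, pow_zero, mul_one, mul_inv_cancel] at he'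
  rw [← he', orderOf_one] at hg
  exact (Fact.out : p.Prime).one_lt.ne hg

/-- The nontrivial powers of an element of order five conjugated to its square are conjugate. -/
theorem five_powers {G : Type*} [Group G] {x g : G} (hx : x ^ 5 = 1) (hg : g * x * g⁻¹ = x ^ 2) {i : ℕ}
    (h0 : 0 < i) (h5 : i < 5) : IsConj x (x ^ i) := by
  have h2 : IsConj x (x ^ 2) := isConj_iff.2 ⟨g, hg⟩
  have h4 : IsConj (x ^ 2) (x ^ 4) := isConj_iff.2 ⟨g, by rw [← conj_pow, hg, ← pow_mul]⟩
  have h3 : IsConj (x ^ 4) (x ^ 3) := isConj_iff.2 ⟨g, by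
    rw [← conj_pow, hg, ← pow_mul, show 2 * 4 = 5 + 3 by norm_num, pow_add, hx, one_mul]⟩
  interval_cases i
  · rw [pow_one]
  · exact h2
  · exact h2.trans (h4.trans h3)
  · exact h2.trans h4

/-- The representative of order five. -/
def xFive : Equiv.Perm GolayPt := pL x5L

theorem xFive_eq : xFive = pL x5L := rfl

theorem xFive_mem : xFive ∈ M24 := mem_M24_of_test lists_m24.2.1

attribute [local irreducible] xFive

theorem pL_fix {L : List ℕ} (h : validL 24 L = true) {i : ℕ} (hi : i < 24) :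
    pL L (pt i) = pt i ↔ i ∈ (List.range 24).filter fun j => L.getD j 0 == j := by
  rw [pL_pt h hi, List.mem_filter, List.mem_range, beq_iff_eq]
  exact ⟨fun e => ⟨hi, pt_inj (validL_getD_lt h hi) hi e⟩, fun e => by rw [e.2]⟩

/-- The fixed points of the representative of order five. -/
def fixFive : Finset GolayPt := Finset.univ.filter fun p => xFive p = p

theorem mem_fixFive {p : GolayPt} : p ∈ fixFive ↔ xFive p = p := by simp [fixFive]

theorem fixFive_eq : fixFive = {pt 0, pt 8, pt 19, pt 23} := by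
  ext p
  obtain ⟨i, hi, rfl⟩ := exists_pt p
  rw [mem_fixFive, xFive_eq, pL_fix (valid_of_m24Test lists_m24.2.1) hi, x5L_facts.2.1]
  simp only [List.mem_cons, List.not_mem_nil, or_false, Finset.mem_insert, Finset.mem_singleton]
  constructor
  · rintro (rfl | rfl | rfl | rfl) <;> simp
  · rintro (h | h | h | h) <;> simp [pt_inj hi (by omega) h]

theorem card_fixFive : fixFive.card = 4 := by
  rw [fixFive_eq]
  decide +kernel

theorem xFive_pow : xFive ^ 5 = 1 := by
  have hv := valid_of_m24Test lists_m24.2.1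
  have h := congrArg pL x5L_facts.1
  rw [pL_compL hv (validL_compL hv (validL_compL hv (validL_compL hv hv))),
    pL_compL hv (validL_compL hv (validL_compL hv hv)), pL_compL hv (validL_compL hv hv),
    pL_compL hv hv, pL_range] at h
  rw [← h]
  simp only [pow_succ', pow_zero, mul_one, xFive_eq]

theorem xFive_ne_one : xFive ≠ 1 := by
  intro h
  have h1 : pt 1 ∈ fixFive := mem_fixFive.2 (by rw [h]; rfl)
  rw [fixFive_eq] at h1
  revert h1
  decide +kernel

theorem orderOf_xFive : orderOf xFive = 5 := by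
  haveI : Fact (Nat.Prime 5) := ⟨by norm_num⟩
  exact orderOf_eq_prime xFive_pow xFive_ne_one

theorem xFive_mem_M22 : xFive ∈ Cfsg.Spor.M22 := by
  refine mem_M22_iff.2 ⟨xFive_mem, mem_fixFive.1 ?_, mem_fixFive.1 ?_⟩
  · rw [fixFive_eq, ← pt_last]; simp
  · rw [fixFive_eq, ← pt_zero]; simp

theorem gFive_facts : pL g5L ∈ Cfsg.Spor.M22 ∧ pL g5L * xFive * (pL g5L)⁻¹ = xFive ^ 2 := by
  obtain ⟨-, hx, hg, -⟩ := lists_m24
  have hvx := valid_of_m24Test hx
  have hvg := valid_of_m24Test hg
  obtain ⟨-, -, he, h0, h23, -⟩ := x5L_facts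
  refine ⟨mem_M22_iff.2 ⟨mem_M24_of_test hg, ?_, ?_⟩, ?_⟩
  · rw [← pt_last, pL_pt hvg (by omega), h23]
  · rw [← pt_zero, pL_pt hvg (by omega), h0]
  · have h := congrArg pL he
    rw [pL_compL hvg hvx, pL_compL (validL_compL hvx hvx) hvg, pL_compL hvx hvx] at h
    rw [xFive_eq]
    rw [h, mul_inv_cancel_right, pow_two]

theorem card_M24_factors : (Nat.card M24).factorization 5 = 1 ∧
    (Nat.card Cfsg.Spor.M22).factorization 5 = 1 := by
  haveI : Fact (Nat.Prime 5) := ⟨by norm_num⟩
  rw [card_M24, CfsgLib.Fusion.card_M22]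
  refine ⟨?_, ?_⟩
  · rw [show 244823040 = 5 ^ 1 * 48964608 by norm_num, Nat.factorization_mul (by norm_num) (by norm_num),
      Finsupp.add_apply, Nat.Prime.factorization_pow (Fact.out), Finsupp.single_eq_same,
      Nat.factorization_eq_zero_of_not_dvd (by norm_num)]
  · rw [show 443520 = 5 ^ 1 * 88704 by norm_num, Nat.factorization_mul (by norm_num) (by norm_num),
      Finsupp.add_apply, Nat.Prime.factorization_pow (Fact.out), Finsupp.single_eq_same,
      Nat.factorization_eq_zero_of_not_dvd (by norm_num)]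

/-- All elements of order five are conjugate. -/
theorem five_conj_M24 {g : ↥M24} (hg : orderOf g = 5) : IsConj (⟨xFive, xFive_mem⟩ : ↥M24) g := by
  haveI : Fact (Nat.Prime 5) := ⟨by norm_num⟩
  have ho : orderOf (⟨xFive, xFive_mem⟩ : ↥M24) = 5 := by
    rw [← Subgroup.orderOf_coe]; exact orderOf_xFive
  have hpow : (⟨xFive, xFive_mem⟩ : ↥M24) ^ 5 = 1 := by
    rw [← ho]; exact pow_orderOf_eq_one _
  have hconj : (⟨pL g5L, m22_le gFive_facts.1⟩ : ↥M24) * ⟨xFive, xFive_mem⟩ * (⟨pL g5L, m22_le gFive_facts.1⟩)⁻¹ =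
      (⟨xFive, xFive_mem⟩ : ↥M24) ^ 2 := by
    apply Subtype.ext
    simp only [Subgroup.coe_mul, Subgroup.coe_inv, Subgroup.coe_pow]
    exact gFive_facts.2
  obtain ⟨w, i, h0, h5, e⟩ := conj_pow_of_sylow card_M24_factors.1 ho hg
  exact (five_powers hpow hconj h0 h5).trans (isConj_iff.2 ⟨w, e.symm⟩)

/-- All elements of order five are conjugate in the two-point stabiliser. -/
theorem five_conj_M22 {g : ↥Cfsg.Spor.M22} (hg : orderOf g = 5) :
    IsConj (⟨xFive, xFive_mem_M22⟩ : ↥Cfsg.Spor.M22) g := by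
  haveI : Fact (Nat.Prime 5) := ⟨by norm_num⟩
  have ho : orderOf (⟨xFive, xFive_mem_M22⟩ : ↥Cfsg.Spor.M22) = 5 := by
    rw [← Subgroup.orderOf_coe]; exact orderOf_xFive
  have hpow : (⟨xFive, xFive_mem_M22⟩ : ↥Cfsg.Spor.M22) ^ 5 = 1 := by
    rw [← ho]; exact pow_orderOf_eq_one _
  have hconj : (⟨pL g5L, gFive_facts.1⟩ : ↥Cfsg.Spor.M22) * ⟨xFive, xFive_mem_M22⟩ *
      (⟨pL g5L, gFive_facts.1⟩)⁻¹ = (⟨xFive, xFive_mem_M22⟩ : ↥Cfsg.Spor.M22) ^ 2 := by
    apply Subtype.ext
    simp only [Subgroup.coe_mul, Subgroup.coe_inv, Subgroup.coe_pow]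
    exact gFive_facts.2
  obtain ⟨w, i, h0, h5, e⟩ := conj_pow_of_sylow card_M24_factors.2 ho hg
  exact (five_powers hpow hconj h0 h5).trans (isConj_iff.2 ⟨w, e.symm⟩)

/-- An element of order five fixes four points. -/
theorem five_fixed_card {g : Equiv.Perm GolayPt} (hg : g ∈ M24) (ho : orderOf g = 5) :
    (Finset.univ.filter fun p => g p = p).card = 4 := by
  obtain ⟨c, hc⟩ := isConj_iff.1 (five_conj_M24 (g := ⟨g, hg⟩) (by rw [← Subgroup.orderOf_coe]; exact ho))
  have hc' : (c : Equiv.Perm GolayPt) * xFive * (c : Equiv.Perm GolayPt)⁻¹ = g := congrArg Subtype.val hc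
  rw [← hc', m24_fixed_conj]
  exact card_fixFive

/-- The centraliser of the representative of order five. -/
def centFive : Subgroup (Equiv.Perm GolayPt) := M24 ⊓ Subgroup.centralizer {xFive}

theorem mem_centFive {g : Equiv.Perm GolayPt} : g ∈ centFive ↔ g ∈ M24 ∧ g * xFive = xFive * g := by
  rw [centFive, Subgroup.mem_inf, Subgroup.mem_centralizer_singleton_iff]

theorem fix_mod_five {t : Equiv.Perm GolayPt} (ht : t ∈ centFive) :
    (Finset.univ.filter fun p => t p = p).card % 5 = (fixFive.filter fun p => t p = p).card % 5 := by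
  classical
  haveI : Fact (Nat.Prime 5) := ⟨by norm_num⟩
  have hc := (mem_centFive.1 ht).2
  have hp : ∀ p : GolayPt, t (xFive p) = xFive p ↔ t p = p := fun p => by
    rw [← Equiv.Perm.mul_apply, hc, Equiv.Perm.mul_apply, xFive.injective.eq_iff]
  let σ : Equiv.Perm {p : GolayPt // t p = p} := xFive.subtypePerm hp
  have hσ : σ ^ 5 ^ 1 = 1 := by
    rw [pow_one, Equiv.Perm.subtypePerm_pow]
    ext p
    simp only [Equiv.Perm.subtypePerm_apply, xFive_pow, Equiv.Perm.one_apply]
  have h := Equiv.Perm.card_compl_support_modEq hσ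
  rw [Nat.ModEq, Fintype.card_subtype] at h
  rw [← h]
  congr 1
  refine Finset.card_bij (fun p _ => p.1) (fun p hp => ?_) (fun a _ b _ e => Subtype.ext e) fun p hp => ?_
  · simp only [Finset.mem_compl, Equiv.Perm.mem_support, not_not, σ, Equiv.Perm.subtypePerm_apply,
      Subtype.ext_iff] at hp
    exact Finset.mem_filter.2 ⟨mem_fixFive.2 hp, p.2⟩
  · obtain ⟨h1, h2⟩ := Finset.mem_filter.1 hp
    exact ⟨⟨p, h2⟩, by simpa [σ, Equiv.Perm.subtypePerm_apply, Subtype.ext_iff] using mem_fixFive.1 h1, rfl⟩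

theorem centFive_fixFive {t : Equiv.Perm GolayPt} (ht : t ∈ centFive) {p : GolayPt} :
    t p ∈ fixFive ↔ p ∈ fixFive := by
  rw [mem_fixFive, mem_fixFive, ← Equiv.Perm.mul_apply, ← (mem_centFive.1 ht).2, Equiv.Perm.mul_apply,
    t.injective.eq_iff]

/-- A centralising involution moves every fixed point. -/
theorem inv_no_fix {t : Equiv.Perm GolayPt} (ht : t ∈ centFive) (h2 : orderOf t = 2) {p : GolayPt}
    (hp : p ∈ fixFive) : t p ≠ p := by
  intro htp
  have h := fix_mod_five ht
  set F := fixFive.filter fun q => t q = q with hF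
  have hpF : p ∈ F := Finset.mem_filter.2 ⟨hp, htp⟩
  have hle : F.card ≤ 4 := (Finset.card_filter_le _ _).trans card_fixFive.le
  have hpos : 0 < F.card := Finset.card_pos.2 ⟨p, hpF⟩
  have h3 : F.card = 3 := by
    obtain ⟨u, -, ⟨-, h8⟩ | ⟨-, h8⟩⟩ := inv_cases (mem_centFive.1 ht).1 h2 <;> rw [h8] at h <;> omega
  obtain ⟨q, hq, hqF⟩ : ∃ q ∈ fixFive, q ∉ F := by
    by_contra hc
    push Not at hc
    have := Finset.card_le_card (fun q hq => hc q hq : fixFive ⊆ F)
    rw [card_fixFive, h3] at this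
    omega
  have hne : t q ≠ q := fun e => hqF (Finset.mem_filter.2 ⟨hq, e⟩)
  have hsub : insert q (insert (t q) F) ⊆ fixFive :=
    Finset.insert_subset hq (Finset.insert_subset ((centFive_fixFive ht).2 hq) (Finset.filter_subset _ _))
  have htqF : t q ∉ F := fun hm => hne (t.injective (Finset.mem_filter.1 hm).2)
  have := Finset.card_le_card hsub
  rw [Finset.card_insert_of_notMem (by simp [hqF, Ne.symm hne]), Finset.card_insert_of_notMem htqF, h3,
    card_fixFive] at this
  omega

/-- The centralising elements fixing all four points. -/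
def kerFive : Subgroup (Equiv.Perm GolayPt) :=
  centFive ⊓ fixingSubgroup (Equiv.Perm GolayPt) (fixFive : Set GolayPt)

theorem mem_kerFive {g : Equiv.Perm GolayPt} : g ∈ kerFive ↔ g ∈ centFive ∧ ∀ p ∈ fixFive, g p = p := by
  simp [kerFive, Subgroup.mem_inf, mem_fixingSubgroup_iff, Equiv.Perm.smul_def]

theorem card_kerFive : Nat.card ↥kerFive = 5 := by
  classical
  have hxK : xFive ∈ kerFive :=
    mem_kerFive.2 ⟨mem_centFive.2 ⟨xFive_mem, rfl⟩, fun p hp => mem_fixFive.1 hp⟩
  have h5 : 5 ∣ Nat.card ↥kerFive := by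
    rw [← orderOf_xFive]; exact Subgroup.orderOf_dvd_natCard _ hxK
  have hfree : ∀ g ∈ kerFive, ∀ q, q ∉ fixFive → g q = q → g = 1 := by
    intro g hg q hq hgq
    obtain ⟨hgc, hfix⟩ := mem_kerFive.1 hg
    by_contra hne
    have hle := fixed_le_eight (mem_centFive.1 hgc).1 hne
    have hmod := fix_mod_five hgc
    have hF : fixFive.filter (fun p => g p = p) = fixFive := Finset.filter_true_of_mem hfix
    rw [hF, card_fixFive] at hmod
    have hsub : insert q fixFive ⊆ Finset.univ.filter fun p => g p = p :=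
      Finset.insert_subset (by simp [hgq]) fun p hp => by simp [hfix p hp]
    have := Finset.card_le_card hsub
    rw [Finset.card_insert_of_notMem hq, card_fixFive] at this
    omega
  obtain ⟨q, hq⟩ : ∃ q, q ∉ fixFive := ⟨pt 1, by rw [fixFive_eq]; decide +kernel⟩
  have hle : Nat.card ↥kerFive ≤ 20 := by
    have hmaps : ∀ g : ↥kerFive, (g : Equiv.Perm GolayPt) q ∈ fixFiveᶜ := fun g =>
      Finset.mem_compl.2 fun h => hq ((centFive_fixFive (mem_kerFive.1 g.2).1).1 h)
    let f : ↥kerFive → ↥(fixFiveᶜ) := fun g => ⟨(g : Equiv.Perm GolayPt) q, hmaps g⟩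
    have hf : Function.Injective f := fun g h e => by
      have e' : (g : Equiv.Perm GolayPt) q = (h : Equiv.Perm GolayPt) q := congrArg Subtype.val e
      have : ((h : Equiv.Perm GolayPt))⁻¹ * g = 1 := hfree _ (mul_mem (inv_mem h.2) g.2) q hq (by
        rw [Equiv.Perm.mul_apply, e']; simp)
      exact Subtype.ext (inv_mul_eq_one.1 this).symm
    have := Nat.card_le_card_of_injective f hf
    rwa [Nat.card_eq_finsetCard, Finset.card_compl, card_fixFive, Fintype.card_congr ptEquiv,
      Fintype.card_fin] at this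
  have hno : ∀ r : ℕ, r.Prime → r ∣ Nat.card ↥kerFive → r ≠ 2 ∧ r ≠ 3 := by
    intro r hr hrd
    haveI : Fact r.Prime := ⟨hr⟩
    obtain ⟨g, hg⟩ := exists_prime_orderOf_dvd_card' (G := ↥kerFive) r hrd
    have hgo : orderOf (g : Equiv.Perm GolayPt) = r := by rw [Subgroup.orderOf_coe]; exact hg
    obtain ⟨hgc, hfix⟩ := mem_kerFive.1 g.2
    refine ⟨fun h2 => inv_no_fix hgc (hgo.trans h2) (p := pt 0) (by rw [fixFive_eq]; simp)
      (hfix _ (by rw [fixFive_eq]; simp)), fun h3 => ?_⟩
    have hmod := fix_mod_five hgc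
    rw [Finset.filter_true_of_mem hfix, card_fixFive] at hmod
    obtain ⟨u, -, ⟨-, h6⟩ | ⟨-, h6⟩⟩ := three_cases (mem_centFive.1 hgc).1 (hgo.trans h3) <;>
      rw [h6] at hmod <;> omega
  obtain ⟨m, hm⟩ := h5
  have hm4 : m ≤ 4 := by omega
  have hpos : 0 < m := Nat.pos_of_ne_zero fun h => Nat.card_pos.ne' (by rw [hm, h, mul_zero])
  interval_cases m
  · exact hm
  · exact absurd rfl (hno 2 Nat.prime_two (by rw [hm]; norm_num)).1
  · exact absurd rfl (hno 3 Nat.prime_three (by rw [hm]; norm_num)).2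
  · exact absurd rfl (hno 2 Nat.prime_two (by rw [hm]; norm_num)).1

/-- A centralising element whose square fixes the four points and which moves one is, after taking
the fifth power, an involution with the same action there. -/
theorem fifth_power {g : Equiv.Perm GolayPt} (hg : g ∈ centFive) (hsq : g * g ∈ kerFive) {p : GolayPt}
    (hp : p ∈ fixFive) (hgp : g p ≠ p) :
    g ^ 5 ∈ centFive ∧ orderOf (g ^ 5) = 2 ∧ ∀ q ∈ fixFive, (g ^ 5) q = g q := by
  have h10 : (g * g) ^ 5 = 1 := by
    have := pow_card_eq_one' (x := (⟨g * g, hsq⟩ : ↥kerFive))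
    rw [card_kerFive] at this
    exact congrArg Subtype.val this
  have hq : ∀ q ∈ fixFive, (g ^ 5) q = g q := by
    intro q hq
    rw [show g ^ 5 = g * g * (g * g) * g by simp only [pow_succ, pow_zero, one_mul, mul_assoc],
      Equiv.Perm.mul_apply, Equiv.Perm.mul_apply (f := g * g) (g := g * g),
      (mem_kerFive.1 hsq).2 _ ((centFive_fixFive hg).2 hq), (mem_kerFive.1 hsq).2 _ ((centFive_fixFive hg).2 hq)]
  refine ⟨pow_mem hg 5, ?_, hq⟩
  haveI : Fact (Nat.Prime 2) := ⟨Nat.prime_two⟩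
  refine orderOf_eq_prime ?_ fun e => hgp ?_
  · rw [← pow_mul, mul_comm, pow_mul, pow_two]; exact h10
  · rw [← hq p hp, e]; rfl

theorem centFive_M22 : Nat.card ↥(centFive ⊓ Cfsg.Spor.M22) ≤ 5 := by
  rw [← card_kerFive]
  refine Subgroup.card_le_of_le (fun g hg => mem_kerFive.2 ⟨hg.1, ?_⟩)
  obtain ⟨hgc, hg22⟩ := hg
  obtain ⟨-, hn, h0⟩ := mem_M22_iff.1 hg22
  rw [← pt_last] at hn
  rw [← pt_zero] at h0
  have hcases : ∀ q ∈ fixFive, g q = pt 0 ∨ g q = pt 8 ∨ g q = pt 19 ∨ g q = pt 23 := fun q hq => by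
    have := (centFive_fixFive hgc).2 hq
    simpa [fixFive_eq] using this
  have hne : ∀ i j : ℕ, i < 24 → j < 24 → i ≠ j → pt i ≠ pt j := fun i j hi hj h e => h (pt_inj hi hj e)
  have m8 : pt 8 ∈ fixFive := by rw [fixFive_eq]; simp
  have m19 : pt 19 ∈ fixFive := by rw [fixFive_eq]; simp
  have h8 : g (pt 8) = pt 8 := by
    by_contra h8
    have e8 : g (pt 8) = pt 19 := by
      rcases hcases _ m8 with e | e | e | e
      · exact absurd (g.injective (e.trans h0.symm)) (hne 8 0 (by omega) (by omega) (by omega))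
      · exact absurd e h8
      · exact e
      · exact absurd (g.injective (e.trans hn.symm)) (hne 8 23 (by omega) (by omega) (by omega))
    have e19 : g (pt 19) = pt 8 := by
      rcases hcases _ m19 with e | e | e | e
      · exact absurd (g.injective (e.trans h0.symm)) (hne 19 0 (by omega) (by omega) (by omega))
      · exact e
      · exact absurd (g.injective (e.trans e8.symm)) (hne 19 8 (by omega) (by omega) (by omega))
      · exact absurd (g.injective (e.trans hn.symm)) (hne 19 23 (by omega) (by omega) (by omega))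
    have hsq : g * g ∈ kerFive := mem_kerFive.2 ⟨mul_mem hgc hgc, fun q hq => by
      simp only [fixFive_eq, Finset.mem_insert, Finset.mem_singleton] at hq
      rcases hq with rfl | rfl | rfl | rfl <;> simp [h0, e8, e19, hn]⟩
    obtain ⟨h5, ho, heq⟩ := fifth_power hgc hsq m8 h8
    exact inv_no_fix h5 ho (p := pt 0) (by rw [fixFive_eq]; simp)
      ((heq _ (by rw [fixFive_eq]; simp)).trans h0)
  intro q hq
  simp only [fixFive_eq, Finset.mem_insert, Finset.mem_singleton] at hq
  rcases hq with rfl | rfl | rfl | rfl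
  · exact h0
  · exact h8
  · rcases hcases _ m19 with e | e | e | e
    · exact absurd (g.injective (e.trans h0.symm)) (hne 19 0 (by omega) (by omega) (by omega))
    · exact absurd (g.injective (e.trans h8.symm)) (hne 19 8 (by omega) (by omega) (by omega))
    · exact e
    · exact absurd (g.injective (e.trans hn.symm)) (hne 19 23 (by omega) (by omega) (by omega))
  · exact hn

theorem centFive_M24 : Nat.card ↥centFive ≤ 60 := by
  classical
  let φ : ↥centFive →* Equiv.Perm ↥fixFive :=
    { toFun := fun g => (g : Equiv.Perm GolayPt).subtypePerm fun _ => centFive_fixFive g.2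
      map_one' := by ext x; rfl
      map_mul' := fun a b => by ext x; rfl }
  have hker : ∀ g : ↥centFive, g ∈ φ.ker ↔ (g : Equiv.Perm GolayPt) ∈ kerFive := by
    intro g
    rw [MonoidHom.mem_ker, mem_kerFive]
    exact ⟨fun h => ⟨g.2, fun p hp => congrArg Subtype.val (Equiv.ext_iff.1 h ⟨p, hp⟩)⟩,
      fun h => Equiv.ext fun p => Subtype.ext (h.2 p p.2)⟩
  have hkc : Nat.card ↥φ.ker = 5 := by
    rw [← card_kerFive]
    exact Nat.card_congr
      { toFun := fun g => ⟨g.1.1, (hker g.1).1 g.2⟩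
        invFun := fun g => ⟨⟨g.1, (mem_kerFive.1 g.2).1⟩, (hker _).2 g.2⟩
        left_inv := fun g => rfl
        right_inv := fun g => rfl }
  have m0 : pt 0 ∈ fixFive := by rw [fixFive_eq]; simp
  have m8 : pt 8 ∈ fixFive := by rw [fixFive_eq]; simp
  have m19 : pt 19 ∈ fixFive := by rw [fixFive_eq]; simp
  have hne : φ.range ≠ ⊤ := by
    intro htop
    obtain ⟨g, hg⟩ : Equiv.swap (⟨pt 0, m0⟩ : ↥fixFive) ⟨pt 8, m8⟩ ∈ φ.range := htop ▸ Subgroup.mem_top _
    have hval : ∀ q : ↥fixFive,
        (g : Equiv.Perm GolayPt) q = (Equiv.swap (⟨pt 0, m0⟩ : ↥fixFive) ⟨pt 8, m8⟩ q).1 := fun q =>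
      congrArg Subtype.val (Equiv.ext_iff.1 hg q)
    have hsq : (g : Equiv.Perm GolayPt) * g ∈ kerFive := by
      refine (hker (g * g)).1 ?_
      rw [MonoidHom.mem_ker, map_mul, hg, Equiv.swap_mul_self]
    have h80 : (pt 8 : GolayPt) ≠ pt 0 := fun e => absurd (pt_inj (by omega) (by omega) e) (by omega)
    have hgp : (g : Equiv.Perm GolayPt) (pt 0) ≠ pt 0 := by
      rw [hval ⟨pt 0, m0⟩, Equiv.swap_apply_left]; exact h80
    obtain ⟨h5, ho, heq⟩ := fifth_power g.2 hsq m0 hgp
    refine inv_no_fix h5 ho m19 ((heq _ m19).trans ?_)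
    rw [hval ⟨pt 19, m19⟩, Equiv.swap_apply_of_ne_of_ne]
    · exact fun e => absurd (pt_inj (by omega) (by omega) (congrArg Subtype.val e)) (by omega)
    · exact fun e => absurd (pt_inj (by omega) (by omega) (congrArg Subtype.val e)) (by omega)
  have h12 : Nat.card ↥φ.range ≤ 12 := by
    have h24 : Nat.card (Equiv.Perm ↥fixFive) = 24 := by
      rw [Nat.card_perm, Nat.card_eq_finsetCard, card_fixFive]; rfl
    obtain ⟨j, hj⟩ : Nat.card ↥φ.range ∣ 24 := h24 ▸ Subgroup.card_subgroup_dvd_card _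
    rcases Nat.lt_or_ge j 2 with h | h
    · exfalso
      interval_cases j
      · omega
      · exact hne ((Subgroup.card_eq_iff_eq_top _).1 (by rw [h24]; omega))
    · nlinarith
  have h := φ.ker.card_mul_index
  rw [Subgroup.index_ker, hkc] at h
  omega

/-- A four-group inside a centraliser. -/
theorem four_subgroup {G : Type*} [Group G] {a b x : G} (ha : a * a = 1) (hb : b * b = 1)
    (hab : a * b = b * a) (a1 : a ≠ 1) (b1 : b ≠ 1) (hne : a ≠ b) (hxa : a * x = x * a) (hxb : b * x = x * b) :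
    ∃ A : Subgroup G, Nat.card A = 2 ^ 2 ∧ A ≤ Subgroup.centralizer ({x} : Set G) := by
  classical
  have hai : a⁻¹ = a := inv_eq_of_mul_eq_one_right ha
  have hbi : b⁻¹ = b := inv_eq_of_mul_eq_one_right hb
  have c1 : a * (a * b) = b := by rw [← mul_assoc, ha, one_mul]
  have c2 : b * (a * b) = a := by rw [hab, ← mul_assoc, hb, one_mul]
  have c3 : a * b * a = b := by rw [hab, mul_assoc, ha, mul_one]
  have c4 : a * b * b = a := by rw [mul_assoc, hb, mul_one]
  let A : Subgroup G :=
    { carrier := (({1, a, b, a * b} : Finset G) : Set G)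
      one_mem' := by simp
      mul_mem' := by
        intro u v hu hv
        simp only [Finset.coe_insert, Finset.coe_singleton, Set.mem_insert_iff, Set.mem_singleton_iff] at hu hv ⊢
        rcases hu with e | e | e | e <;> rcases hv with e' | e' | e' | e' <;> rw [e, e'] <;>
          simp [ha, hb, ← hab, c1, c2, c3, c4, show a * b * (a * b) = 1 by rw [← mul_assoc, c3, hb]]
      inv_mem' := by
        intro u hu
        simp only [Finset.coe_insert, Finset.coe_singleton, Set.mem_insert_iff, Set.mem_singleton_iff] at hu ⊢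
        rcases hu with e | e | e | e <;> rw [e] <;> simp [hai, hbi, mul_inv_rev, ← hab] }
  refine ⟨A, ?_, fun u hu => Subgroup.mem_centralizer_singleton_iff.2 ?_⟩
  · show Nat.card ↥(({1, a, b, a * b} : Finset G)) = 4
    rw [Nat.card_eq_finsetCard]
    have n1 : a * b ≠ 1 := fun e => hne (by rw [← mul_one a, ← hb, ← mul_assoc, e, one_mul])
    have n2 : a * b ≠ a := fun e => b1 (mul_eq_left.1 e)
    have n3 : a * b ≠ b := fun e => a1 (mul_eq_right.1 e)
    rw [Finset.card_insert_of_notMem (by simp [Ne.symm a1, Ne.symm b1, Ne.symm n1]),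
      Finset.card_insert_of_notMem (by simp [hne, Ne.symm n2]), Finset.card_pair (Ne.symm n3)]
  · have hu' : u ∈ (({1, a, b, a * b} : Finset G) : Set G) := hu
    simp only [Finset.coe_insert, Finset.coe_singleton, Set.mem_insert_iff, Set.mem_singleton_iff] at hu'
    rcases hu' with e | e | e | e <;> rw [e]
    · simp
    · exact hxa
    · exact hxb
    · rw [mul_assoc, hxb, ← mul_assoc, hxa, mul_assoc]

/-- A four-group centralising the representative of order five. -/
theorem xFive_four : ∃ A : Subgroup ↥M24, Nat.card A = 2 ^ 2 ∧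
    A ≤ Subgroup.centralizer ({⟨xFive, xFive_mem⟩} : Set ↥M24) := by
  obtain ⟨-, hx, -, hA, hB, -⟩ := lists_m24
  have vx := valid_of_m24Test hx
  have va := valid_of_m24Test hA
  have vb := valid_of_m24Test hB
  obtain ⟨-, -, -, -, -, cxa, cxb, cab, saa, sbb, na, nb, nab⟩ := x5L_facts
  refine four_subgroup (a := ⟨pL vAL, mem_M24_of_test hA⟩) (b := ⟨pL vBL, mem_M24_of_test hB⟩)
    (Subtype.ext ?_) (Subtype.ext ?_) (Subtype.ext ?_) ?_ ?_ ?_ (Subtype.ext ?_) (Subtype.ext ?_)
  · show pL vAL * pL vAL = 1; rw [← pL_compL va va, saa, pL_range]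
  · show pL vBL * pL vBL = 1; rw [← pL_compL vb vb, sbb, pL_range]
  · show pL vAL * pL vBL = pL vBL * pL vAL; rw [← pL_compL va vb, ← pL_compL vb va, cab]
  · exact fun e => na (pL_inj va (by decide) ((congrArg Subtype.val e).trans pL_range.symm))
  · exact fun e => nb (pL_inj vb (by decide) ((congrArg Subtype.val e).trans pL_range.symm))
  · exact fun e => nab (pL_inj va vb (congrArg Subtype.val e))
  · show pL vAL * xFive = xFive * pL vAL; rw [xFive_eq]; rw [← pL_compL va vx, ← pL_compL vx va, cxa]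
  · show pL vBL * xFive = xFive * pL vBL; rw [xFive_eq]; rw [← pL_compL vb vx, ← pL_compL vx vb, cxb]

end CfsgLib.MathieuBlocks
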