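import Cfsg.Agent.Lib.MathieuBlocks.Sums
import Cfsg.Agent.Lib.MathieuBlocks.Five
import Cfsg.Agent.Lib.Golay.M24Gens
import Cfsg.Agent.S5604

/-!
# Elements of orders three, seven, fifteen and twenty-three in the full group
-/

set_option autoImplicit false
set_option linter.unusedSectionVars false
set_option linter.style.haveILetI false

open Cfsg CfsgLib.Golay CfsgLib.M24Cert

open scoped Pointwise ComplexConjugate

noncomputable section

namespace CfsgLib.MathieuBlocks

/-- The number of fixed points of an element of order seven. -/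
theorem seven_fixed_card {g : Equiv.Perm GolayPt} (hg : g ∈ M24) (ho : orderOf g = 7) :
    (Finset.univ.filter fun p => g p = p).card = 3 := by
  obtain ⟨u, -, e | e⟩ := seven_class hg ho
  · rw [e, m24_fixed_conj, fixN_card elR_facts.1]
    decide +kernel
  · have hv : validL 24 elRcube = true := by decide +kernel
    have hR := elR_facts.2.1
    have h3 : pL elR.L ^ 3 = pL elRcube := by
      rw [← certs_ok.2.2.2.2.2.2.2.2.2, pL_compL hR (validL_compL hR hR), pL_compL hR hR, pow_succ, pow_two,
        mul_assoc]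
    rw [e, m24_fixed_conj, h3, (desc_pL hv).fixed_card]
    decide +kernel

/-- Fixed points modulo a prime, for commuting permutations. -/
theorem fix_mod {p : ℕ} [Fact p.Prime] {x y : Equiv.Perm GolayPt} (hc : y * x = x * y)
    (hxp : ∀ q, y q = q → (x ^ p) q = q) :
    (Finset.univ.filter fun q => y q = q).card % p =
      (Finset.univ.filter fun q => y q = q ∧ x q = q).card % p := by
  classical
  have hp : ∀ q : GolayPt, y (x q) = x q ↔ y q = q := fun q => by
    rw [← Equiv.Perm.mul_apply, hc, Equiv.Perm.mul_apply, x.injective.eq_iff]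
  let σ : Equiv.Perm {q : GolayPt // y q = q} := x.subtypePerm hp
  have hσ : σ ^ p ^ 1 = 1 := by
    rw [pow_one, Equiv.Perm.subtypePerm_pow]
    ext q
    simp only [Equiv.Perm.subtypePerm_apply, hxp q q.2, Equiv.Perm.one_apply]
  have h := Equiv.Perm.card_compl_support_modEq hσ
  rw [Nat.ModEq, Fintype.card_subtype] at h
  rw [← h]
  congr 1
  refine Finset.card_bij (fun q _ => q.1) (fun q hq => ?_) (fun a _ b _ e => Subtype.ext e) fun q hq => ?_
  · simp only [Finset.mem_compl, Equiv.Perm.mem_support, not_not, σ, Equiv.Perm.subtypePerm_apply,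
      Subtype.ext_iff] at hq
    exact Finset.mem_filter.2 ⟨Finset.mem_univ _, q.2, hq⟩
  · obtain ⟨-, h1, h2⟩ := Finset.mem_filter.1 hq
    exact ⟨⟨q, h1⟩, by simpa [σ, Equiv.Perm.subtypePerm_apply, Subtype.ext_iff] using h2, rfl⟩

/-- A power fixes what the element fixes, and a coprime power fixes nothing more. -/
theorem fixed_gcd {x : Equiv.Perm GolayPt} {m j : ℕ} {q : GolayPt} (h : (x ^ m) q = q) (t : ℕ)
    (hj : (x ^ orderOf x) = 1) (ht : m * t % orderOf x = j) : (x ^ j) q = q := by
  have h1 : ∀ k, ((x ^ m) ^ k) q = q := fun k => by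
    induction k with
    | zero => rfl
    | succ k ih => rw [pow_succ, Equiv.Perm.mul_apply, h, ih]
  have h2 := h1 t
  rw [← pow_mul, ← Nat.mod_add_div (m * t) (orderOf x), pow_add, pow_mul, hj, one_pow, mul_one, ht] at h2
  exact h2

/-- The fixed points of the powers of an element of order fifteen. -/
theorem fifteen_data {x : Equiv.Perm GolayPt} (hx : x ∈ M24) (ho : orderOf x = 15) :
    (Finset.univ.filter fun q => x q = q).card = 1 ∧ (Finset.univ.filter fun q => (x ^ 5) q = q).card = 6 ∧
      (Finset.univ.filter fun q => (x ^ 3) q = q).card = 4 ∧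
      ∀ q, (x ^ 3) q = q → (x ^ 5) q = q → x q = q := by
  classical
  have h15 : x ^ 15 = 1 := ho ▸ pow_orderOf_eq_one x
  have ho5 : orderOf (x ^ 5) = 3 := by rw [orderOf_pow' _ (by norm_num), ho]; norm_num
  have ho3 : orderOf (x ^ 3) = 5 := by rw [orderOf_pow' _ (by norm_num), ho]; norm_num
  haveI : Fact (Nat.Prime 3) := ⟨Nat.prime_three⟩
  haveI : Fact (Nat.Prime 5) := ⟨by norm_num⟩
  have hB := five_fixed_card (pow_mem hx 3) ho3
  have hgcd : ∀ q, (x ^ 3) q = q → (x ^ 5) q = q → x q = q := by
    intro q h3 h5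
    have h6 : (x ^ 6) q = q := by
      rw [show (6 : ℕ) = 3 + 3 from rfl, pow_add, Equiv.Perm.mul_apply, h3, h3]
    calc x q = x ((x ^ 5) q) := by rw [h5]
      _ = (x ^ 6) q := by rw [← Equiv.Perm.mul_apply, ← pow_succ']
      _ = q := h6
  have hmodB := fix_mod (p := 3) (x := x) (y := x ^ 3) (Commute.pow_self x 3).eq fun q hq => hq
  have hsub5 : ∀ q, x q = q → (x ^ 5) q = q := fun q h => Equiv.Perm.pow_apply_eq_self_of_apply_eq_self h 5
  have hsub3 : ∀ q, x q = q → (x ^ 3) q = q := fun q h => Equiv.Perm.pow_apply_eq_self_of_apply_eq_self h 3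
  set F := Finset.univ.filter fun q => x q = q with hF
  have eB : (Finset.univ.filter fun q => (x ^ 3) q = q ∧ x q = q) = F :=
    Finset.filter_congr fun q _ => ⟨fun h => h.2, fun h => ⟨hsub3 q h, h⟩⟩
  rw [eB, hB] at hmodB
  have hFpos : 0 < F.card := by omega
  have hA : (Finset.univ.filter fun q => (x ^ 5) q = q).card = 6 := by
    obtain ⟨q, hq⟩ := Finset.card_pos.1 hFpos
    obtain ⟨u, -, ⟨-, h⟩ | ⟨-, h⟩⟩ := three_cases (pow_mem hx 5) ho5
    · exact h
    · exact absurd (hsub5 q (Finset.mem_filter.1 hq).2) (fixed_card_zero_iff.1 h q)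
  have hmodA := fix_mod (p := 5) (x := x) (y := x ^ 5) (Commute.pow_self x 5).eq fun q hq => hq
  have eA : (Finset.univ.filter fun q => (x ^ 5) q = q ∧ x q = q) = F :=
    Finset.filter_congr fun q _ => ⟨fun h => h.2, fun h => ⟨hsub5 q h, h⟩⟩
  rw [eA, hA] at hmodA
  have hFle : F.card ≤ 4 := hB ▸ Finset.card_le_card fun q hq =>
    Finset.mem_filter.2 ⟨Finset.mem_univ _, hsub3 q (Finset.mem_filter.1 hq).2⟩
  have hF1 : F.card = 1 := by omega
  exact ⟨hF1, hA, hB, hgcd⟩

/-- The centraliser of an element of order fifteen has at most fifteen elements. -/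
theorem cent_fifteen {x : Equiv.Perm GolayPt} (hx : x ∈ M24) (ho : orderOf x = 15) :
    Nat.card ↥(M24 ⊓ Subgroup.centralizer {x}) ≤ 15 := by
  classical
  obtain ⟨hF1, hA, hB, hgcd⟩ := fifteen_data hx ho
  set F := Finset.univ.filter fun q => x q = q with hF
  have hsub5 : ∀ q, x q = q → (x ^ 5) q = q := fun q h => Equiv.Perm.pow_apply_eq_self_of_apply_eq_self h 5
  have hsub3 : ∀ q, x q = q → (x ^ 3) q = q := fun q h => Equiv.Perm.pow_apply_eq_self_of_apply_eq_self h 3
  set U := (Finset.univ.filter fun q => (x ^ 5) q = q) ∪ (Finset.univ.filter fun q => (x ^ 3) q = q) with hU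
  have hUcard : U.card = 9 := by
    have h := Finset.card_union_add_card_inter (Finset.univ.filter fun q => (x ^ 5) q = q)
      (Finset.univ.filter fun q => (x ^ 3) q = q)
    have hint : (Finset.univ.filter fun q => (x ^ 5) q = q) ∩ (Finset.univ.filter fun q => (x ^ 3) q = q) = F := by
      ext q
      simp only [Finset.mem_inter, Finset.mem_filter, Finset.mem_univ, true_and, hF]
      exact ⟨fun h => hgcd q h.2 h.1, fun h => ⟨hsub5 q h, hsub3 q h⟩⟩
    rw [hint, hF1, hA, hB] at h
    rw [hU]; omega
  obtain ⟨q, hq⟩ : ∃ q, q ∉ U := by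
    by_contra hc
    push Not at hc
    have := Finset.card_le_card (fun q _ => hc q : (Finset.univ : Finset GolayPt) ⊆ U)
    rw [Finset.card_univ, Fintype.card_congr ptEquiv, Fintype.card_fin, hUcard] at this
    omega
  have hfree : ∀ m, 0 < m → m < 15 → (x ^ m) q ≠ q := by
    intro m h0 h15' hm
    have key : ∀ m < 15, 0 < m → ∃ t < 15, m * t % 15 = 3 ∨ m * t % 15 = 5 := by decide
    obtain ⟨t, -, ht⟩ := key m h15' h0
    refine hq (Finset.mem_union.2 ?_)
    rcases ht with ht | ht
    · exact Or.inr (Finset.mem_filter.2 ⟨Finset.mem_univ _,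
        fixed_gcd hm t (pow_orderOf_eq_one x) (by rw [ho]; exact ht)⟩)
    · exact Or.inl (Finset.mem_filter.2 ⟨Finset.mem_univ _,
        fixed_gcd hm t (pow_orderOf_eq_one x) (by rw [ho]; exact ht)⟩)
  have hcomm : ∀ c : ↥(M24 ⊓ Subgroup.centralizer {x}), ∀ (j : ℕ) (p : GolayPt),
      (c : Equiv.Perm GolayPt) ((x ^ j) p) = (x ^ j) ((c : Equiv.Perm GolayPt) p) := fun c j p => by
    rw [← Equiv.Perm.mul_apply, ← Equiv.Perm.mul_apply]
    have h : Commute (c : Equiv.Perm GolayPt) x := Subgroup.mem_centralizer_singleton_iff.1 c.2.2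
    rw [(h.pow_right j).eq]
  have hmaps : ∀ c : ↥(M24 ⊓ Subgroup.centralizer {x}), (c : Equiv.Perm GolayPt) q ∈ Uᶜ := fun c => by
    rw [Finset.mem_compl]
    intro h
    refine hq ?_
    rcases Finset.mem_union.1 h with h | h
    · refine Finset.mem_union_left _ (Finset.mem_filter.2 ⟨Finset.mem_univ _, ?_⟩)
      have h' := (Finset.mem_filter.1 h).2
      rw [← hcomm] at h'
      exact c.1.injective h'
    · refine Finset.mem_union_right _ (Finset.mem_filter.2 ⟨Finset.mem_univ _, ?_⟩)
      have h' := (Finset.mem_filter.1 h).2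
      rw [← hcomm] at h'
      exact c.1.injective h'
  let f : ↥(M24 ⊓ Subgroup.centralizer {x}) → ↥(Uᶜ) := fun c => ⟨(c : Equiv.Perm GolayPt) q, hmaps c⟩
  have hf : Function.Injective f := by
    intro c e hce
    have hq' : (c : Equiv.Perm GolayPt) q = (e : Equiv.Perm GolayPt) q := congrArg Subtype.val hce
    by_contra hne
    set w := (e : Equiv.Perm GolayPt)⁻¹ * c with hw
    have hwne : w ≠ 1 := fun h => hne (Subtype.ext (inv_mul_eq_one.1 h).symm)
    have hle := fixed_le_eight (mul_mem (inv_mem e.2.1) c.2.1) hwne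
    have hwfix : ∀ j : ℕ, w ((x ^ j) q) = (x ^ j) q := fun j => by
      rw [hw, Equiv.Perm.mul_apply, hcomm, hq', ← hcomm]
      simp
    have hsub : (Finset.range 15).image (fun j => (x ^ j) q) ⊆ Finset.univ.filter fun p => w p = p := by
      intro p hp
      obtain ⟨j, -, rfl⟩ := Finset.mem_image.1 hp
      exact Finset.mem_filter.2 ⟨Finset.mem_univ _, hwfix j⟩
    have hinj : Set.InjOn (fun j => (x ^ j) q) (Finset.range 15 : Set ℕ) := by
      have key : ∀ i j, i < j → j < 15 → (x ^ i) q ≠ (x ^ j) q := fun i j hij hj heq => by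
        rw [show j = i + (j - i) by omega, pow_add, Equiv.Perm.mul_apply] at heq
        exact hfree (j - i) (by omega) (by omega) ((x ^ i).injective heq).symm
      intro i hi j hj heq
      rw [Finset.coe_range, Set.mem_Iio] at hi hj
      rcases Nat.lt_trichotomy i j with h | h | h
      · exact absurd heq (key i j h hj)
      · exact h
      · exact absurd heq.symm (key j i h hi)
    have := (Finset.card_le_card hsub).trans hle
    rw [Finset.card_image_of_injOn hinj, Finset.card_range] at this
    omega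
  have h := Nat.card_le_card_of_injective f hf
  rwa [Nat.card_eq_finsetCard, Finset.card_compl, Fintype.card_congr ptEquiv, Fintype.card_fin, hUcard] at h

/-- The translation of order twenty-three. -/
def xTrans : Equiv.Perm GolayPt := pL transL

theorem xTrans_facts : xTrans ∈ M24 ∧ orderOf xTrans = 23 ∧ xTrans none = none ∧
    ∀ i < 23, (xTrans ^ i) (pt 0) = pt i := by
  have hv : validL 24 transL = true := by decide +kernel
  have hpow : ∀ i < 23, (xTrans ^ i) (pt 0) = pt i := by
    intro i
    induction i with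
    | zero => intro _; rfl
    | succ i ih =>
      intro hi
      rw [pow_succ', Equiv.Perm.mul_apply, ih (by omega), xTrans, pL_pt hv (by omega)]
      have : ∀ i < 22, transL.getD i 0 = i + 1 := by decide
      rw [this i (by omega)]
  refine ⟨mem_M24_of_test (by decide +kernel), ?_, ?_, hpow⟩
  · haveI : Fact (Nat.Prime 23) := ⟨by norm_num⟩
    refine orderOf_eq_prime ?_ fun e => ?_
    · refine Equiv.ext fun p => ?_
      obtain ⟨i, hi, rfl⟩ := exists_pt p
      rw [xTrans, (desc_pL hv).pow 23 i hi |>.2, Nat.eq_of_beq_eq_true (allLt_spec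
        (show allLt (fun i => Nat.beq (iterN (getR transL) 23 i) i) 24 = true by decide +kernel) i hi)]
      rfl
    · have := hpow 1 (by omega)
      rw [e, one_pow, Equiv.Perm.one_apply] at this
      exact absurd (pt_inj (by omega) (by omega) this) (by omega)
  · rw [← pt_last, xTrans, pL_pt hv (by omega)]
    rfl

theorem xTrans_conj_sq : ∃ g : ↥M24, g * ⟨xTrans, xTrans_facts.1⟩ * g⁻¹ = (⟨xTrans, xTrans_facts.1⟩ : ↥M24) ^ 2 := by
  have hm : m24Test (mulList 2) = true := by decide +kernel
  have hv := valid_of_m24Test hm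
  have ht : validL 24 transL = true := by decide +kernel
  have h := congrArg pL (show compL (mulList 2) transL = compL (compL transL transL) (mulList 2) by decide +kernel)
  rw [pL_compL hv ht, pL_compL (validL_compL ht ht) hv, pL_compL ht ht] at h
  refine ⟨⟨pL (mulList 2), mem_M24_of_test hm⟩, Subtype.ext ?_⟩
  show pL (mulList 2) * xTrans * (pL (mulList 2))⁻¹ = xTrans ^ 2
  rw [xTrans, h, mul_inv_cancel_right, pow_two]

theorem cent_xTrans : Nat.card ↥(M24 ⊓ Subgroup.centralizer {xTrans}) ≤ 23 := by
  classical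
  obtain ⟨-, -, hn, hpow⟩ := xTrans_facts
  have hmove : ∀ i < 23, xTrans (pt i) ≠ pt i := by
    intro i hi h
    rw [xTrans, pL_pt (by decide +kernel) (by omega)] at h
    have h2 := pt_inj (validL_getD_lt (show validL 24 transL = true by decide +kernel) (by omega)) (by omega) h
    have : ∀ i < 23, transL.getD i 0 ≠ i := by decide
    exact this i hi h2
  have hcn : ∀ c : ↥(M24 ⊓ Subgroup.centralizer {xTrans}), (c : Equiv.Perm GolayPt) none = none := by
    intro c
    have h : xTrans ((c : Equiv.Perm GolayPt) none) = (c : Equiv.Perm GolayPt) none := by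
      rw [← Equiv.Perm.mul_apply, ← Subgroup.mem_centralizer_singleton_iff.1 c.2.2, Equiv.Perm.mul_apply, hn]
    obtain ⟨j, hj, e⟩ := exists_pt ((c : Equiv.Perm GolayPt) none)
    rw [← e] at h ⊢
    rcases Nat.lt_or_ge j 23 with hj' | hj'
    · exact absurd h (hmove j hj')
    · rw [show j = 23 by omega, pt_last]
  let f : ↥(M24 ⊓ Subgroup.centralizer {xTrans}) → ↥((Finset.univ : Finset GolayPt).erase none) := fun c =>
    ⟨(c : Equiv.Perm GolayPt) (pt 0), Finset.mem_erase.2 ⟨fun e => by
      rw [← hcn c] at e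
      exact absurd ((c : Equiv.Perm GolayPt).injective e) (by rw [pt_zero]; simp), Finset.mem_univ _⟩⟩
  have hf : Function.Injective f := by
    intro c e hce
    have h0 : (c : Equiv.Perm GolayPt) (pt 0) = (e : Equiv.Perm GolayPt) (pt 0) := congrArg Subtype.val hce
    refine Subtype.ext (Equiv.ext fun p => ?_)
    obtain ⟨i, hi, rfl⟩ := exists_pt p
    rcases Nat.lt_or_ge i 23 with h | h
    · have hc' : ∀ d : ↥(M24 ⊓ Subgroup.centralizer {xTrans}),
          (d : Equiv.Perm GolayPt) (pt i) = (xTrans ^ i) ((d : Equiv.Perm GolayPt) (pt 0)) := fun d => by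
        have hd : Commute (d : Equiv.Perm GolayPt) xTrans := Subgroup.mem_centralizer_singleton_iff.1 d.2.2
        rw [← hpow i h, ← Equiv.Perm.mul_apply, ← Equiv.Perm.mul_apply, (hd.pow_right i).eq]
      rw [hc', hc', h0]
    · rw [show i = 23 by omega, pt_last, hcn, hcn]
  have h := Nat.card_le_card_of_injective f hf
  rwa [Nat.card_eq_finsetCard, Finset.card_erase_of_mem (Finset.mem_univ _), Finset.card_univ,
    Fintype.card_congr ptEquiv, Fintype.card_fin] at h

/-- The centraliser inside the group, as a subgroup of the symmetric group. -/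
theorem card_cent_eq (x : ↥M24) : Nat.card ↥(Subgroup.centralizer ({x} : Set ↥M24)) =
    Nat.card ↥(M24 ⊓ Subgroup.centralizer {(x : Equiv.Perm GolayPt)}) :=
  Nat.card_congr
    { toFun := fun g => ⟨g.1.1, g.1.2, Subgroup.mem_centralizer_singleton_iff.2
        (congrArg Subtype.val (Subgroup.mem_centralizer_singleton_iff.1 g.2))⟩
      invFun := fun g => ⟨⟨g.1, g.2.1⟩, Subgroup.mem_centralizer_singleton_iff.2
        (Subtype.ext (Subgroup.mem_centralizer_singleton_iff.1 g.2.2))⟩
      left_inv := fun g => rfl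
      right_inv := fun g => rfl }

/-- The centraliser of an element of order seven has 42 elements. -/
theorem cent_seven {x : ↥M24} (hx : orderOf x = 7) :
    Nat.card ↥(Subgroup.centralizer ({x} : Set ↥M24)) = 42 := by
  have h := (Cfsg.Agent.S5604.result (Subgroup.zpowers x) (by rw [Nat.card_zpowers, hx])).2.1
  rwa [Subgroup.zpowers_eq_closure, Subgroup.centralizer_closure] at h

/-- A two-group inside the centraliser of an element of order seven. -/
theorem seven_two {x : ↥M24} (hx : orderOf x = 7) :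
    ∃ A : Subgroup ↥M24, Nat.card A = 2 ^ 1 ∧ A ≤ Subgroup.centralizer ({x} : Set ↥M24) := by
  haveI : Fact (Nat.Prime 2) := ⟨Nat.prime_two⟩
  obtain ⟨t, ht⟩ := exists_prime_orderOf_dvd_card' (G := ↥(Subgroup.centralizer ({x} : Set ↥M24))) 2
    (by rw [cent_seven hx]; norm_num)
  refine ⟨Subgroup.zpowers (t : ↥M24), ?_, Subgroup.zpowers_le.2 t.2⟩
  rw [Nat.card_zpowers, Subgroup.orderOf_coe, ht, pow_one]

end CfsgLib.MathieuBlocks
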