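import Cfsg.Agent.Lib.MathieuBlocks.Sums
import Cfsg.Agent.Lib.MathieuBlocks.Five

/-!
# The two-point stabiliser has one 2-block
-/

set_option autoImplicit false
set_option linter.unusedSectionVars false
set_option linter.style.haveILetI false

open Cfsg CfsgLib.Golay CfsgLib.M24Cert

open scoped Pointwise ComplexConjugate

noncomputable section

namespace CfsgLib.MathieuBlocks

/-- The representative of order three. -/
def xThree : Equiv.Perm GolayPt := pL x3L

theorem xThree_facts : xThree ∈ Cfsg.Spor.M22 ∧ orderOf xThree = 3 ∧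
    ∀ i < 24, xThree (pt i) = pt i ↔ i ∈ fix3 := by
  obtain ⟨hx, -⟩ := lists_m24
  have hv := valid_of_m24Test hx
  obtain ⟨h3, hfix, -⟩ := x3L_facts
  have hf : ∀ i < 24, xThree (pt i) = pt i ↔ i ∈ fix3 := fun i hi => by
    rw [xThree, pL_fix hv hi, hfix]
  refine ⟨mem_M22_iff.2 ⟨mem_M24_of_test hx, ?_, ?_⟩, ?_, hf⟩
  · rw [← pt_last]; exact (hf 23 (by omega)).2 (by decide)
  · rw [← pt_zero]; exact (hf 0 (by omega)).2 (by decide)
  · haveI : Fact (Nat.Prime 3) := ⟨Nat.prime_three⟩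
    refine orderOf_eq_prime ?_ fun e => ?_
    · have h := congrArg pL h3
      rw [pL_compL hv (validL_compL hv hv), pL_compL hv hv, pL_range] at h
      rw [pow_succ', pow_two]
      exact h
    · have := (hf 1 (by omega)).1 (by rw [e]; rfl)
      revert this; decide

theorem two_le_fixed {g : Equiv.Perm GolayPt} (hg : g ∈ Cfsg.Spor.M22) :
    2 ≤ (Finset.univ.filter fun p => g p = p).card := by
  obtain ⟨-, hn, h0⟩ := mem_M22_iff.1 hg
  refine le_trans (le_of_eq (Finset.card_pair (show (none : GolayPt) ≠ some 0 by simp)).symm)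
    (Finset.card_le_card fun p hp => ?_)
  rcases Finset.mem_insert.1 hp with rfl | h
  · simp [hn]
  · rw [Finset.mem_singleton] at h; simp [h, h0]

theorem three_fixed_card {g : Equiv.Perm GolayPt} (hg : g ∈ Cfsg.Spor.M22) (ho : orderOf g = 3) :
    (Finset.univ.filter fun p => g p = p).card = 6 := by
  have := two_le_fixed hg
  obtain ⟨u, -, ⟨-, h⟩ | ⟨-, h⟩⟩ := three_cases (m22_le hg) ho
  · exact h
  · omega

/-- All elements of order three are conjugate. -/
theorem three_conj_M22 {g : ↥Cfsg.Spor.M22} (hg : orderOf g = 3) :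
    IsConj (⟨xThree, xThree_facts.1⟩ : ↥Cfsg.Spor.M22) g := by
  obtain ⟨hx22, hx3, hxf⟩ := xThree_facts
  have hgo : orderOf (g : Equiv.Perm GolayPt) = 3 := by rw [Subgroup.orderOf_coe]; exact hg
  have h2g := two_le_fixed g.2
  have h2x := two_le_fixed hx22
  obtain ⟨u, hu, ⟨eg, -⟩ | ⟨-, h⟩⟩ := three_cases (m22_le g.2) hgo
  swap
  · omega
  obtain ⟨v, hv, ⟨ex, -⟩ | ⟨-, h⟩⟩ := three_cases (m22_le hx22) hx3
  swap
  · omega
  set w := u * v⁻¹ with hw
  have hwx : w * xThree * w⁻¹ = g := by rw [hw, ex, eg]; group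
  have hw24 : w ∈ M24 := mul_mem hu (inv_mem hv)
  obtain ⟨-, gn, g0⟩ := mem_M22_iff.1 g.2
  have hxw : ∀ p, (g : Equiv.Perm GolayPt) p = p → xThree (w⁻¹ p) = w⁻¹ p := fun p hp => by
    calc xThree (w⁻¹ p) = (w⁻¹ * (w * xThree * w⁻¹)) p := by simp
      _ = w⁻¹ p := by rw [hwx, Equiv.Perm.mul_apply, hp]
  obtain ⟨i, hi, ei⟩ := exists_pt (w⁻¹ (some 0))
  obtain ⟨j, hj, ej⟩ := exists_pt (w⁻¹ none)
  have hi3 : i ∈ fix3 := (hxf i hi).1 (by rw [ei]; exact hxw _ g0)
  have hj3 : j ∈ fix3 := (hxf j hj).1 (by rw [ej]; exact hxw _ gn)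
  have hij : i ≠ j := fun e => by
    have : (w⁻¹ (some 0) : GolayPt) = w⁻¹ none := by rw [← ei, ← ej, e]
    simpa using w⁻¹.injective this
  obtain ⟨-, -, hcomm, hcov⟩ := x3L_facts
  simp only [List.all_eq_true, Bool.or_eq_true, List.any_eq_true, Bool.and_eq_true, beq_iff_eq] at hcov hcomm
  obtain ⟨L, hL, hL0, hL23⟩ := (hcov i hi3 j hj3).resolve_left hij
  have hLm := lists_m24.2.2.2.2.2 L hL
  have hLv := valid_of_m24Test hLm
  have hxv := valid_of_m24Test lists_m24.1
  have hc : pL L * xThree = xThree * pL L := by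
    rw [xThree, ← pL_compL hLv hxv, ← pL_compL hxv hLv, hcomm L hL]
  have hc22 : w * pL L ∈ Cfsg.Spor.M22 := by
    refine mem_M22_iff.2 ⟨mul_mem hw24 (mem_M24_of_test hLm), ?_, ?_⟩
    · rw [Equiv.Perm.mul_apply]
      conv_lhs => rw [← pt_last, pL_pt hLv (by omega), hL23, ej]
      exact w.apply_symm_apply _
    · rw [Equiv.Perm.mul_apply]
      conv_lhs => rw [← pt_zero, pL_pt hLv (by omega), hL0, ei]
      exact w.apply_symm_apply _
  refine isConj_iff.2 ⟨⟨w * pL L, hc22⟩, Subtype.ext ?_⟩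
  show w * pL L * xThree * (w * pL L)⁻¹ = g
  rw [← hwx, mul_assoc w, hc]
  group

theorem octad_through_pair : ∃ o ∈ octads, (none : GolayPt) ∈ o ∧ (some 0 : GolayPt) ∈ o := by
  refine ⟨toSet 13062145, isOctB_spec (by decide +kernel), ?_, ?_⟩
  · rw [← pt_last, pt_mem_toSet (by omega)]; decide
  · rw [← pt_zero, pt_mem_toSet (by omega)]; decide

theorem index_octStab_M22 {o : Finset GolayPt} (ho : o ∈ octads) (hn : (none : GolayPt) ∈ o)
    (h0 : (some 0 : GolayPt) ∈ o) : ((octStab o).subgroupOf Cfsg.Spor.M22).index ≤ 77 := by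
  classical
  set A := octStab o ⊓ MulAction.stabilizer (Equiv.Perm GolayPt) (none : GolayPt) with hA
  set B := A ⊓ MulAction.stabilizer (Equiv.Perm GolayPt) (some 0 : GolayPt) with hB
  have h1 := card_inf_stabilizer_mul (octStab o) (none : GolayPt)
  have h2 := card_inf_stabilizer_mul A (some 0 : GolayPt)
  rw [card_octStab ho, ← hA] at h1
  rw [← hB] at h2
  have o1 : (MulAction.orbit ↥(octStab o) (none : GolayPt)).ncard ≤ 8 := by
    refine le_trans (Set.ncard_le_ncard (t := (o : Set GolayPt)) ?_ (o.finite_toSet)) (by rw [Set.ncard_coe_finset, ho.2])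
    rintro _ ⟨g, rfl⟩
    exact (octStab_apply g.2 _).2 hn
  have o2 : (MulAction.orbit ↥A (some 0 : GolayPt)).ncard ≤ 7 := by
    refine le_trans (Set.ncard_le_ncard (t := ((o.erase none) : Set GolayPt)) ?_ (Finset.finite_toSet _))
      (by rw [Set.ncard_coe_finset, Finset.card_erase_of_mem hn, ho.2])
    rintro _ ⟨g, rfl⟩
    have hgn : (g : Equiv.Perm GolayPt) none = none := g.2.2
    refine Finset.mem_coe.2 (Finset.mem_erase.2 ⟨fun e => ?_, (octStab_apply g.2.1 _).2 h0⟩)
    exact absurd ((g : Equiv.Perm GolayPt).injective (e.trans hgn.symm)) (by simp)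
  have hBle : Nat.card ↥B ≤ Nat.card ↥((octStab o).subgroupOf Cfsg.Spor.M22) := by
    refine Nat.card_le_card_of_injective
      (fun b : ↥B => (⟨⟨b.1, mem_M22_iff.2 ⟨(mem_octStab.1 b.2.1.1).1, b.2.1.2, b.2.2⟩⟩, b.2.1.1⟩ :
        ↥((octStab o).subgroupOf Cfsg.Spor.M22))) fun a b e => Subtype.ext ?_
    exact congrArg (fun z : ↥((octStab o).subgroupOf Cfsg.Spor.M22) => (z.1 : Equiv.Perm GolayPt)) e
  have h3 := ((octStab o).subgroupOf Cfsg.Spor.M22).card_mul_index
  rw [CfsgLib.Fusion.card_M22] at h3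
  have hA40 : 40320 ≤ Nat.card ↥A := by nlinarith
  have hB5 : 5760 ≤ Nat.card ↥B := by nlinarith
  nlinarith

theorem type_counts {o : Finset GolayPt} (ho : o ∈ octads) (a b : ↥o) (hab : a ≠ b) :
    (Nat.card {σ : Equiv.Perm ↥o // σ.cycleType = 0 ∧ σ a = a ∧ σ b = b}) = 1 ∧
    (Nat.card {σ : Equiv.Perm ↥o // σ.cycleType = {3} ∧ σ a = a ∧ σ b = b}) = 40 ∧
    (Nat.card {σ : Equiv.Perm ↥o // σ.cycleType = {3, 3} ∧ σ a = a ∧ σ b = b}) = 40 ∧
    (Nat.card {σ : Equiv.Perm ↥o // σ.cycleType = {5} ∧ σ a = a ∧ σ b = b}) = 144 ∧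
    (Nat.card {σ : Equiv.Perm ↥o // σ.cycleType = {7} ∧ σ a = a ∧ σ b = b}) = 0 ∧
    (Nat.card {σ : Equiv.Perm ↥o // σ.cycleType = {3, 5} ∧ σ a = a ∧ σ b = b}) = 0 := by
  classical
  have h6 : Fintype.card {x : ↥o // x ≠ a ∧ x ≠ b} = 6 := by
    rw [Fintype.card_subtype, show (Finset.univ.filter fun x : ↥o => x ≠ a ∧ x ≠ b) = Finset.univ \ {a, b} by
      ext x; simp, Finset.card_univ_sdiff, Finset.card_pair hab, Fintype.card_coe, ho.2]
  simp only [card_type_fix, card_type, h6]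
  decide +kernel

/-- There is no character of 2-defect zero. -/
theorem m22_no_defect_zero (χ : IrrCharacter ↥Cfsg.Spor.M22) :
    ¬ 2 ^ (Nat.card ↥Cfsg.Spor.M22).factorization 2 ∣ charDegree (χ : ↥Cfsg.Spor.M22 → ℂ) := by
  classical
  intro h
  letI := Fintype.ofFinite ↥Cfsg.Spor.M22
  obtain ⟨k, hd, hk, hne, hlt, hvan⟩ := exists_degree (a := 7) (r := 3465) (by rw [CfsgLib.Fusion.card_M22]; norm_num)
    (by norm_num) (by norm_num) χ h
  have hχ := χ.2
  have hd' : (χ : ↥Cfsg.Spor.M22 → ℂ) 1 ≠ 1 := by rw [hd]; exact_mod_cast hne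
  have hk0 : k ≠ 0 := fun e => by rw [e] at hk; norm_num at hk
  have hk5 : k ≤ 5 := by
    by_contra hc
    have h6 : 6 ≤ k := by omega
    have := Nat.mul_le_mul h6 h6
    norm_num at hlt
    nlinarith
  have hk135 : k = 1 ∨ k = 3 ∨ k = 5 := by
    interval_cases k <;> norm_num at hk <;> omega
  obtain ⟨a, ha, hadvd⟩ := int_value hχ Nat.prime_three hd
    (x := (⟨xThree, xThree_facts.1⟩ : ↥Cfsg.Spor.M22)) (by rw [← Subgroup.orderOf_coe]; exact xThree_facts.2.1)
    fun g hg => three_conj_M22 hg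
  have ho5 : orderOf (⟨xFive, xFive_mem_M22⟩ : ↥Cfsg.Spor.M22) = 5 := by
    rw [← Subgroup.orderOf_coe]; exact orderOf_xFive
  obtain ⟨b, hb, hbdvd⟩ := int_value hχ (by norm_num : Nat.Prime 5) hd ho5 fun g hg => five_conj_M22 hg
  have hb5 : b ^ 2 + 1 ≤ (5 : ℤ) := by
    refine sq_add_one_le hχ hd' (hb _ ho5) (c := 5) (le_trans (le_of_eq ?_) centFive_M22)
    refine Nat.card_congr
      { toFun := fun g => ⟨g.1.1, mem_centFive.2 ⟨m22_le g.1.2,
          congrArg Subtype.val (Subgroup.mem_centralizer_singleton_iff.1 g.2)⟩, g.1.2⟩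
        invFun := fun g => ⟨⟨g.1, g.2.2⟩,
          Subgroup.mem_centralizer_singleton_iff.2 (Subtype.ext (mem_centFive.1 g.2.1).2)⟩
        left_inv := fun g => rfl
        right_inv := fun g => rfl }
  obtain ⟨o, ho, hn, h0⟩ := octad_through_pair
  obtain ⟨r, hr⟩ : ∃ r, r ∉ o := by
    by_contra hc
    push Not at hc
    have := Finset.card_le_card (fun x _ => hc x : (Finset.univ : Finset GolayPt) ⊆ o)
    rw [Finset.card_univ, Fintype.card_congr ptEquiv, Fintype.card_fin, ho.2] at this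
    omega
  have hE : octFix o ≤ Cfsg.Spor.M22 := fun e he =>
    mem_M22_iff.2 ⟨(mem_octFix.1 he).1, (mem_octFix.1 he).2 _ hn, (mem_octFix.1 he).2 _ h0⟩
  letI : Fintype ↥((octStab o).subgroupOf Cfsg.Spor.M22) := Fintype.ofFinite _
  have hidx := index_octStab_M22 ho hn h0
  have hzero := sum_subgroup_eq_zero hχ ((octStab o).subgroupOf Cfsg.Spor.M22) hd (by norm_num; omega)
  obtain ⟨c0, c3, c33, c5, c7, c35⟩ := type_counts ho ⟨none, hn⟩ ⟨some 0, h0⟩ (by simp)
  have heq := octad_equation ho hr m22_le hE (χ : ↥Cfsg.Spor.M22 → ℂ)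
    (fun g h => CfsgLib.Char.isClassFunction_of_isIrr hχ g h) hvan hzero
    (fun σ => σ ⟨none, hn⟩ = ⟨none, hn⟩ ∧ σ ⟨some 0, h0⟩ = ⟨some 0, h0⟩)
    (fun g hg hg22 => ⟨Subtype.ext (mem_M22_iff.1 hg22).2.1, Subtype.ext (mem_M22_iff.1 hg22).2.2⟩)
    (fun g hg hQ => mem_M22_iff.2 ⟨hg.1.1, congrArg Subtype.val hQ.1, congrArg Subtype.val hQ.2⟩)
    (fun m => if m = 0 then ((2 ^ 7 * k : ℕ) : ℂ) else if m = {3} then 16 * (a : ℂ) else if m = {3, 3} then 4 * (a : ℂ)
      else if m = {5} then 16 * (b : ℂ) else 0)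
    (fun g hg m hm htype hord => by
      have hsum : (octRes hg).cycleType.sum ≤ 6 := by
        rw [Equiv.Perm.sum_cycleType]
        obtain ⟨-, gn, g0⟩ := mem_M22_iff.1 g.2
        refine (Finset.card_le_card (t := Finset.univ \ {⟨none, hn⟩, ⟨some 0, h0⟩}) fun x hx => ?_).trans
          (le_of_eq (by rw [Finset.card_univ_sdiff, Finset.card_pair (by simp), Fintype.card_coe, ho.2]))
        rw [Equiv.Perm.mem_support] at hx
        simp only [Finset.mem_sdiff, Finset.mem_univ, true_and, Finset.mem_insert, Finset.mem_singleton]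
        rintro (rfl | rfl)
        · exact hx (Subtype.ext gn)
        · exact hx (Subtype.ext g0)
      rw [htype] at hsum
      have hgo : orderOf (g : Equiv.Perm GolayPt) = m.lcm := by rw [Subgroup.orderOf_coe]; exact hord
      simp only [oddTypes, Finset.mem_insert, Finset.mem_singleton] at hm
      rcases hm with e | e | e | e | e | e <;> subst e
      · have hg1 : g = 1 := by
          rw [← orderOf_eq_one_iff, hord]; rfl
        subst hg1
        rw [inv_one, hd, orbWeight, Subgroup.coe_one, outFix_one ho, if_pos rfl]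
        push_cast
        ring
      · have hv : (orderOf g = 3) := hord.trans (by decide)
        rw [orbWeight_eq ho hg (three_fixed_card g.2 (hgo.trans (by decide))) htype, ha g hv,
          ha g⁻¹ (by rw [orderOf_inv]; exact hv), if_neg (by decide), if_pos rfl]
        norm_num
        ring
      · have hv : (orderOf g = 3) := hord.trans (by decide)
        rw [orbWeight_eq ho hg (three_fixed_card g.2 (hgo.trans (by decide))) htype, ha g hv,
          ha g⁻¹ (by rw [orderOf_inv]; exact hv), if_neg (by decide), if_neg (by decide), if_pos rfl]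
        norm_num
        ring
      · have hv : (orderOf g = 5) := hord.trans (by decide)
        rw [orbWeight_eq ho hg (five_fixed_card (m22_le g.2) (hgo.trans (by decide))) htype, hb g hv,
          hb g⁻¹ (by rw [orderOf_inv]; exact hv), if_neg (by decide), if_neg (by decide), if_neg (by decide),
          if_pos rfl]
        norm_num
        ring
      · simp at hsum
      · simp at hsum)
  rw [oddTypes_sum, c0, c3, c33, c5, c7, c35] at heq
  rw [if_pos rfl, if_neg (by decide), if_pos rfl, if_neg (by decide), if_neg (by decide), if_pos rfl,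
    if_neg (by decide), if_neg (by decide), if_neg (by decide), if_pos rfl] at heq
  have heqZ : (128 * k : ℤ) + 800 * a + 2304 * b = 0 := by
    have h' : ((((128 * k : ℤ) + 800 * a + 2304 * b) : ℤ) : ℂ) = 0 := by
      push_cast at heq ⊢
      linear_combination heq
    exact_mod_cast h'
  have hb2 : -2 ≤ b ∧ b ≤ 2 := by constructor <;> nlinarith
  push_cast at hadvd hbdvd
  norm_num at hadvd hbdvd
  rcases hk135 with rfl | rfl | rfl <;> omega

/-- Involutions are constrained. -/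
theorem m22_constrained (t : ↥Cfsg.Spor.M22) (ht : orderOf t = 2) : InConstrained t := by
  have h2 := two_le_fixed t.2
  obtain ⟨-, hn, h0⟩ := mem_M22_iff.1 t.2
  refine constrained_octad m22_le t (eight_fixed_octad (m22_le t.2) (by rw [Subgroup.orderOf_coe]; exact ht)
    (by omega)) fun e he => mem_M22_iff.2 ⟨(mem_octFix.1 he).1, (mem_octFix.1 he).2 _ ?_, (mem_octFix.1 he).2 _ ?_⟩
  · simp [hn]
  · simp [h0]

end CfsgLib.MathieuBlocks
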