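import Cfsg.Agent.Lib.Char.DefectZero
import Cfsg.Agent.Lib.Char.Vanishing
import Cfsg.Agent.Lib.Char.PermLemma

/-!
# Elementary constraints on the values of one irreducible character
-/

set_option autoImplicit false
set_option linter.unusedSectionVars false

open scoped ComplexConjugate

noncomputable section

namespace CfsgLib.MathieuBlocks

open CfsgLib.Char

variable {G : Type*} [Group G] [Fintype G] {χ : G → ℂ} (hχ : Cfsg.IsIrrCharacter G χ)

/-- An algebraic integer with a rational multiple is an integer. -/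
theorem int_of_mul_eq {z : ℂ} (hz : IsIntegral ℤ z) {q a : ℤ} (hq : q ≠ 0) (h : (q : ℂ) * z = a) :
    ∃ b : ℤ, z = b := by
  have e : z = (((a : ℚ) / (q : ℚ) : ℚ) : ℂ) := by
    push_cast
    rw [eq_div_iff (Int.cast_ne_zero.mpr hq), mul_comm]
    exact h
  obtain ⟨b, hb⟩ := exists_int_of_isIntegral_rat (e ▸ hz)
  exact ⟨b, by rw [e, hb]; simp⟩

include hχ

/-- The values on the powers of an element sum to a multiple of the number of powers. -/
theorem sum_powers (x : G) :
    ∃ m : ℤ, ∑ i ∈ Finset.range (orderOf x), χ (x ^ i) = ((orderOf x : ℤ) * m : ℤ) := by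
  classical
  letI := Fintype.ofFinite (Subgroup.zpowers x)
  obtain ⟨k, hk⟩ := classInner_char_nat (isCharacter_res (Subgroup.zpowers x) (isCharacter_of_isIrr hχ))
    (isCharacter_one (G := Subgroup.zpowers x))
  have h := card_mul_classInner (fun y : Subgroup.zpowers x => χ y) (fun _ => 1)
  rw [hk, Nat.card_zpowers] at h
  refine ⟨k, ?_⟩
  push_cast
  rw [h, Finset.sum_range]
  simp only [map_one, mul_one]
  exact Fintype.sum_equiv (finEquivZPowers (isOfFinOrder_of_finite x)) _ _ fun i => by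
    rw [finEquivZPowers_apply]

/-- So do the squared absolute values. -/
theorem sum_powers_normSq (x : G) :
    ∃ m : ℤ, ∑ i ∈ Finset.range (orderOf x), Complex.normSq (χ (x ^ i)) = ((orderOf x : ℤ) * m : ℤ) := by
  classical
  letI := Fintype.ofFinite (Subgroup.zpowers x)
  have hc := isCharacter_res (Subgroup.zpowers x) (isCharacter_of_isIrr hχ)
  obtain ⟨k, hk⟩ := classInner_char_nat hc hc
  have h := card_mul_classInner (fun y : Subgroup.zpowers x => χ y) (fun y => χ y)
  rw [hk, Nat.card_zpowers] at h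
  refine ⟨k, ?_⟩
  have h2 : ∑ i ∈ Finset.range (orderOf x), (Complex.normSq (χ (x ^ i)) : ℂ) = ((orderOf x : ℂ) * (k : ℂ)) := by
    rw [h, Finset.sum_range]
    refine Fintype.sum_equiv (finEquivZPowers (isOfFinOrder_of_finite x)) _ _ fun i => ?_
    rw [finEquivZPowers_apply, Complex.mul_conj]
  rw [← Complex.ofReal_sum] at h2
  have h3 := congrArg Complex.re h2
  simp only [Complex.ofReal_re, Complex.mul_re, Complex.natCast_re, Complex.natCast_im, mul_zero, sub_zero] at h3
  rw [h3]
  push_cast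
  rfl

/-- Column bound for a nontrivial character. -/
theorem normSq_add_one_le (h1 : χ 1 ≠ 1) (x : G) :
    Complex.normSq (χ x) + 1 ≤ (Nat.card (Subgroup.centralizer ({x} : Set G)) : ℝ) := by
  classical
  rw [← sum_normSq_eq_card_centralizer x]
  let A : Cfsg.IrrCharacter G := ⟨χ, hχ⟩
  let B : Cfsg.IrrCharacter G := ⟨fun _ => 1, isIrrCharacter_one⟩
  have hne : A ≠ B := fun e => h1 (congrFun (congrArg Subtype.val e) 1)
  refine le_trans (le_of_eq ?_) (Finset.sum_le_sum_of_subset_of_nonneg (Finset.subset_univ {A, B})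
    fun ψ _ _ => Complex.normSq_nonneg _)
  rw [Finset.sum_pair hne]
  simp [A, B]

/-- Column bound at a non-real value. -/
theorem two_normSq_add_one_le (h1 : χ 1 ≠ 1) {x : G} (hx : conj (χ x) ≠ χ x) :
    2 * Complex.normSq (χ x) + 1 ≤ (Nat.card (Subgroup.centralizer ({x} : Set G)) : ℝ) := by
  classical
  rw [← sum_normSq_eq_card_centralizer x]
  let A : Cfsg.IrrCharacter G := ⟨χ, hχ⟩
  let A' : Cfsg.IrrCharacter G := irrConj A
  let B : Cfsg.IrrCharacter G := ⟨fun _ => 1, isIrrCharacter_one⟩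
  have hAB : A ≠ B := fun e => h1 (congrFun (congrArg Subtype.val e) 1)
  have hAA : A ≠ A' := fun e => hx (congrFun (congrArg Subtype.val e) x).symm
  have hA'B : A' ≠ B := fun e => by
    have := congrFun (congrArg Subtype.val e) 1
    simp only [A', irrConj_apply, A, B] at this
    rw [char_conj_one (isCharacter_of_isIrr hχ)] at this
    exact h1 this
  refine le_trans (le_of_eq ?_) (Finset.sum_le_sum_of_subset_of_nonneg (Finset.subset_univ {A, A', B})
    fun ψ _ _ => Complex.normSq_nonneg _)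
  rw [Finset.sum_insert (by simp [hAA, hAB]), Finset.sum_pair hA'B]
  simp only [A', irrConj_apply, A, B, Complex.normSq_conj, map_one]
  ring

/-- The sum over a subgroup of index below the degree vanishes. -/
theorem sum_subgroup_eq_zero (H : Subgroup G) [Fintype H] {d : ℕ} (hd : χ 1 = d) (hlt : H.index < d) :
    ∑ h : H, χ h = 0 := by
  classical
  have h0 : Cfsg.classInner (Cfsg.indFun H fun _ => 1) χ = 0 := by
    by_contra h
    have := constituent_degree_le (isCharacter_indFun _ isCharacter_one) hχ h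
    rw [hd, indFun_one] at this
    simp only [mul_one, Complex.natCast_re] at this
    exact absurd (by exact_mod_cast this : d ≤ H.index) (not_le.2 hlt)
  rw [frobenius_reciprocity _ _ (isClassFunction_of_isIrr hχ)] at h0
  have h := card_mul_classInner (fun _ : H => (1 : ℂ)) (fun h => χ h)
  rw [h0, mul_zero] at h
  have h' := congrArg conj h
  simpa [map_sum] using h'.symm

/-- The square of the degree is less than the order. -/
theorem degree_sq_lt {d : ℕ} (hd : χ 1 = d) (hd1 : d ≠ 1) : d * d < Nat.card G := by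
  have h := normSq_add_one_le hχ (by rw [hd]; exact_mod_cast hd1) 1
  rw [hd, Complex.normSq_natCast, Subgroup.centralizer_eq_top_iff_subset.2
    (Set.singleton_subset_iff.2 (one_mem _)), Subgroup.card_top] at h
  have : d * d + 1 ≤ Nat.card G := by exact_mod_cast h
  omega

/-- Relations for an element whose powers in `A` take two conjugate values and are otherwise
integers. -/
theorem pair_rel (x : G) {n : ℕ} (hn : orderOf x = n) (A : Finset ℕ) (hA : A ⊆ Finset.range n)
    (hAne : A.Nonempty) {z : ℂ} (hzA : ∀ i ∈ A, χ (x ^ i) = z ∨ χ (x ^ i) = conj z) (v : ℕ → ℤ)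
    (hv : ∀ i ∈ Finset.range n \ A, χ (x ^ i) = v i) :
    ∃ g N : ℤ, z + conj z = (g : ℂ) ∧ (z * conj z = (N : ℂ)) ∧
      (n : ℤ) ∣ (A.card : ℤ) * g + 2 * ∑ i ∈ Finset.range n \ A, v i ∧
      (n : ℤ) ∣ (A.card : ℤ) * N + ∑ i ∈ Finset.range n \ A, v i ^ 2 := by
  classical
  have hzi : IsIntegral ℤ z := by
    obtain ⟨i, hi⟩ := hAne
    rcases hzA i hi with h | h
    · exact h ▸ char_isIntegral (isCharacter_of_isIrr hχ) _
    · have := char_isIntegral (isCharacter_of_isIrr hχ) (x ^ i)⁻¹
      rwa [char_inv (isCharacter_of_isIrr hχ), h, Complex.conj_conj] at this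
  have hzci : IsIntegral ℤ (conj z) := hzi.map (starRingEnd ℂ).toIntAlgHom
  obtain ⟨m, hm⟩ := sum_powers hχ x
  obtain ⟨m', hm'⟩ := sum_powers_normSq hχ x
  rw [hn, ← Finset.sum_sdiff hA] at hm hm'
  set S := Finset.range n \ A with hS
  have hA0 : (A.card : ℤ) ≠ 0 := by exact_mod_cast hAne.card_pos.ne'
  -- the sum
  have e1 : ∑ i ∈ A, (χ (x ^ i) + conj (χ (x ^ i))) = ((A.card : ℤ) : ℂ) * (z + conj z) := by
    rw [Finset.sum_congr rfl (g := fun _ => z + conj z) fun i hi => by
      rcases hzA i hi with h | h <;> rw [h]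
      rw [Complex.conj_conj, add_comm]]
    rw [Finset.sum_const, nsmul_eq_mul]
    push_cast
    rfl
  rw [Finset.sum_congr rfl (fun i hi => hv i hi)] at hm
  have hmc := congrArg conj hm
  simp only [map_add, map_sum, map_intCast] at hmc
  rw [Finset.sum_add_distrib] at e1
  have e2 : ((A.card : ℤ) : ℂ) * (z + conj z) = ((2 * ((n : ℤ) * m - ∑ i ∈ S, v i) : ℤ) : ℂ) := by
    push_cast at hm hmc ⊢
    linear_combination -e1 + hm + hmc
  obtain ⟨g, hg⟩ := int_of_mul_eq (hzi.add hzci) hA0 e2
  -- the squares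
  have e3 : ∀ i ∈ S, Complex.normSq (χ (x ^ i)) = ((v i ^ 2 : ℤ) : ℝ) := fun i hi => by
    rw [hv i hi, Complex.normSq_intCast]; push_cast; ring
  have e4 : ∀ i ∈ A, Complex.normSq (χ (x ^ i)) = Complex.normSq z := fun i hi => by
    rcases hzA i hi with h | h <;> simp [h]
  rw [Finset.sum_congr rfl e3, Finset.sum_congr rfl e4, Finset.sum_const, nsmul_eq_mul] at hm'
  have e5 : ((A.card : ℤ) : ℂ) * (z * conj z) = (((n : ℤ) * m' - ∑ i ∈ S, v i ^ 2 : ℤ) : ℂ) := by
    have := congrArg (Complex.ofReal) hm'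
    rw [Complex.mul_conj]
    push_cast at this ⊢
    linear_combination this
  obtain ⟨N, hN⟩ := int_of_mul_eq (hzi.mul hzci) hA0 e5
  rw [hg] at e2
  rw [hN] at e5
  have f2 : (A.card : ℤ) * g = 2 * ((n : ℤ) * m - ∑ i ∈ S, v i) := by exact_mod_cast e2
  have f5 : (A.card : ℤ) * N = (n : ℤ) * m' - ∑ i ∈ S, v i ^ 2 := by exact_mod_cast e5
  exact ⟨g, N, hg, hN, ⟨2 * m, by rw [f2]; ring⟩, ⟨m', by rw [f5]; ring⟩⟩

end CfsgLib.MathieuBlocks
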