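import Mathlib

/-!
# Elements of odd order of permutation groups on eight points
-/

set_option autoImplicit false
set_option linter.unusedSectionVars false

noncomputable section

namespace CfsgLib.MathieuBlocks

open Equiv

variable {α : Type*} [Fintype α] [DecidableEq α]

/-- The cycle types of the elements of odd order of a permutation group on at most eight points. -/
def oddTypes : Finset (Multiset ℕ) := {0, {3}, {3, 3}, {5}, {7}, {3, 5}}

theorem cycleType_mem_oddTypes (h8 : Fintype.card α ≤ 8) {σ : Perm α} (ho : Odd (orderOf σ)) :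
    σ.cycleType ∈ oddTypes := by
  have hmem : ∀ n ∈ σ.cycleType, n = 3 ∨ n = 5 ∨ n = 7 := by
    intro n hn
    have h2 := Perm.two_le_of_mem_cycleType hn
    have hle : n ≤ 8 := (Multiset.single_le_sum (fun _ _ => Nat.zero_le _) n hn).trans
      ((Perm.sum_cycleType_le σ).trans h8)
    obtain ⟨a, ha⟩ := ho
    obtain ⟨b, hb⟩ := Perm.dvd_of_mem_cycleType hn
    interval_cases n <;> omega
  have hsum : σ.cycleType.sum ≤ 8 := (Perm.sum_cycleType_le σ).trans h8
  have hcard : σ.cycleType.card ≤ 2 := by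
    have := Multiset.card_nsmul_le_sum (s := σ.cycleType) (a := 3) fun n hn => by
      rcases hmem n hn with h | h | h <;> omega
    rw [smul_eq_mul] at this
    omega
  rcases Nat.lt_or_ge σ.cycleType.card 2 with h | h
  · rcases Nat.lt_or_ge σ.cycleType.card 1 with h' | h'
    · rw [Multiset.card_eq_zero.1 (by omega : σ.cycleType.card = 0)]
      decide
    · obtain ⟨a, ha⟩ := Multiset.card_eq_one.1 (by omega : σ.cycleType.card = 1)
      rw [ha] at hmem ⊢
      rcases hmem a (Multiset.mem_singleton_self a) with rfl | rfl | rfl <;> decide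
  · obtain ⟨a, b, hab⟩ := Multiset.card_eq_two.1 (by omega : σ.cycleType.card = 2)
    rw [hab] at hmem hsum ⊢
    have hs : a + b ≤ 8 := by simpa using hsum
    rcases hmem a (by simp) with rfl | rfl | rfl <;> rcases hmem b (by simp) with rfl | rfl | rfl <;>
      first | omega | decide

theorem sign_of_mem_oddTypes {σ : Perm α} (h : σ.cycleType ∈ oddTypes) : Perm.sign σ = 1 := by
  rw [Perm.sign_of_cycleType]
  simp only [oddTypes, Finset.mem_insert, Finset.mem_singleton] at h
  rcases h with e | e | e | e | e | e <;> rw [e] <;> decide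

/-- The size of the centraliser index of a fixed type, as a count. -/
theorem card_type (m : Multiset ℕ) :
    Nat.card {σ : Perm α // σ.cycleType = m} =
      if m.sum ≤ Fintype.card α ∧ ∀ a ∈ m, 2 ≤ a then
        (Fintype.card α).factorial /
          ((Fintype.card α - m.sum).factorial * m.prod * (∏ n ∈ m.toFinset, (m.count n).factorial))
      else 0 := by
  rw [← Perm.card_of_cycleType α m, Nat.card_eq_fintype_card, Fintype.card_subtype]

theorem card_type_fix (a b : α) (m : Multiset ℕ) :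
    Nat.card {σ : Perm α // σ.cycleType = m ∧ σ a = a ∧ σ b = b} =
      Nat.card {τ : Perm {x : α // x ≠ a ∧ x ≠ b} // τ.cycleType = m} := by
  let p : α → Prop := fun x => x ≠ a ∧ x ≠ b
  symm
  refine Nat.card_eq_of_bijective (fun τ => ⟨Perm.ofSubtype τ.1, ?_, ?_, ?_⟩) ⟨fun s t h => ?_, fun σ => ?_⟩
  · rw [Perm.cycleType_ofSubtype, τ.2]
  · exact Perm.ofSubtype_apply_of_not_mem τ.1 (fun h => h.1 rfl)
  · exact Perm.ofSubtype_apply_of_not_mem τ.1 (fun h => h.2 rfl)
  · exact Subtype.ext (Perm.ofSubtype_injective (congrArg Subtype.val h))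
  · obtain ⟨σ, hm, ha, hb⟩ := σ
    have hp : ∀ x, p (σ x) ↔ p x := fun x =>
      and_congr (not_congr (σ.injective.eq_iff' ha)) (not_congr (σ.injective.eq_iff' hb))
    have hout : ∀ x, σ x ≠ x → p x := fun x hx =>
      ⟨fun e => hx (by rw [e, ha]), fun e => hx (by rw [e, hb])⟩
    have e : Perm.ofSubtype (σ.subtypePerm hp) = σ := Perm.ofSubtype_subtypePerm _ hout
    refine ⟨⟨σ.subtypePerm hp, ?_⟩, Subtype.ext e⟩
    rw [← Perm.cycleType_ofSubtype, e, hm]

/-- The reference elements on eight points: a permutation and an odd one inverting or fixing it. -/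
def refThree : Perm (Fin 8) := swap 0 1 * swap 1 2
/-- Two cycles of length three. -/
def refDouble : Perm (Fin 8) := swap 0 1 * swap 1 2 * (swap 3 4 * swap 4 5)
/-- A cycle of length five. -/
def refFive : Perm (Fin 8) := swap 0 1 * swap 1 2 * swap 2 3 * swap 3 4
/-- A cycle of length seven. -/
def refSeven : Perm (Fin 8) := swap 0 1 * swap 1 2 * swap 2 3 * swap 3 4 * swap 4 5 * swap 5 6
/-- A cycle of length five and one of length three. -/
def refFifteen : Perm (Fin 8) := swap 0 1 * swap 1 2 * swap 2 3 * swap 3 4 * (swap 5 6 * swap 6 7)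

/-- Two permutations of one type are conjugate by an even permutation up to inversion, given an odd
permutation fixing or inverting a reference element. -/
theorem conj_even {σ σ₀ d₀ : Perm α} (h : σ.cycleType = σ₀.cycleType) (hd : Perm.sign d₀ = -1)
    (hd' : d₀ * σ₀ * d₀⁻¹ = σ₀ ∨ d₀ * σ₀ * d₀⁻¹ = σ₀⁻¹) :
    ∃ c : Perm α, Perm.sign c = 1 ∧ (σ = c * σ₀ * c⁻¹ ∨ σ = c * σ₀⁻¹ * c⁻¹) := by
  obtain ⟨c, hc⟩ := isConj_iff.1 (Perm.isConj_iff_cycleType_eq.2 h.symm)
  rcases Int.units_eq_one_or (Perm.sign c) with hs | hs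
  · exact ⟨c, hs, Or.inl hc.symm⟩
  · refine ⟨c * d₀⁻¹, by rw [map_mul, map_inv, hs, hd]; decide, ?_⟩
    rcases hd' with e | e
    · left
      rw [← hc]
      conv_rhs => rw [← e]
      group
    · right
      rw [← hc]
      conv_rhs => rw [← e]
      group

/-- A commuting version without inversion. -/
theorem conj_even' {σ σ₀ d₀ : Perm α} (h : σ.cycleType = σ₀.cycleType) (hd : Perm.sign d₀ = -1)
    (hd' : d₀ * σ₀ * d₀⁻¹ = σ₀) : ∃ c : Perm α, Perm.sign c = 1 ∧ σ = c * σ₀ * c⁻¹ := by
  obtain ⟨c, hc⟩ := isConj_iff.1 (Perm.isConj_iff_cycleType_eq.2 h.symm)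
  rcases Int.units_eq_one_or (Perm.sign c) with hs | hs
  · exact ⟨c, hs, hc.symm⟩
  · refine ⟨c * d₀⁻¹, by rw [map_mul, map_inv, hs, hd]; decide, ?_⟩
    rw [← hc]
    conv_rhs => rw [← hd']
    group

/-- Sums of a function of the cycle type over a group of permutations. -/
theorem sum_types {K : Type*} [Fintype K] (ρ : K → Perm α) (hinj : Function.Injective ρ)
    (T : Finset (Multiset ℕ)) (Q : Perm α → Prop) [DecidablePred Q] (hQ : ∀ k, Q (ρ k))
    (hsurj : ∀ σ, σ.cycleType ∈ T → Q σ → ∃ k, ρ k = σ) (F : Multiset ℕ → ℂ) (f : K → ℂ)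
    (hf : ∀ k, f k = if (ρ k).cycleType ∈ T then F (ρ k).cycleType else 0) :
    ∑ k, f k = ∑ m ∈ T, (Nat.card {σ : Perm α // σ.cycleType = m ∧ Q σ} : ℂ) * F m := by
  rw [Finset.sum_congr rfl fun k _ => hf k, ← Finset.sum_filter,
    ← Finset.sum_fiberwise_of_maps_to (g := fun k => (ρ k).cycleType) (t := T)
      (fun k hk => (Finset.mem_filter.1 hk).2)]
  refine Finset.sum_congr rfl fun m hm => ?_
  rw [Finset.sum_congr rfl (g := fun _ => F m) fun k hk => by rw [(Finset.mem_filter.1 hk).2],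
    Finset.sum_const, nsmul_eq_mul]
  congr 2
  rw [← Nat.card_eq_finsetCard]
  refine Nat.card_eq_of_bijective (fun k => ⟨ρ k.1, (Finset.mem_filter.1 k.2).2, hQ _⟩)
    ⟨fun s t h => Subtype.ext (hinj (congrArg Subtype.val h)), fun σ => ?_⟩
  obtain ⟨k, hk⟩ := hsurj σ.1 (by rw [σ.2.1]; exact hm) σ.2.2
  refine ⟨⟨k, ?_⟩, Subtype.ext hk⟩
  simp only [Finset.mem_filter, Finset.mem_univ, true_and, hk, σ.2.1]
  exact ⟨hm, trivial⟩

end CfsgLib.MathieuBlocks
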