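import Cfsg.Agent.Lib.M24Cert.ClassFacts

/-!
# Tabulated elements: representatives of orders three and five fixing two points, and their centralisers
-/

set_option autoImplicit false

namespace CfsgLib.MathieuBlocks

open Cfsg CfsgLib.Golay CfsgLib.M24Cert

/-- An element of order three fixing the points 0 and 23. -/
def x3L : List ℕ := [0, 14, 5, 1, 9, 17, 18, 7, 21, 13, 10, 8, 6, 4, 3, 15, 20, 2, 12, 19, 22, 11, 16, 23]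

/-- An element of order five fixing the points 0 and 23. -/
def x5L : List ℕ := [0, 21, 12, 1, 2, 3, 20, 9, 8, 11, 16, 6, 14, 17, 15, 4, 13, 22, 5, 19, 7, 18, 10, 23]

/-- An element normalising the group of `x5L`, fixing the points 0 and 23. -/
def g5L : List ℕ := [0, 18, 20, 1, 11, 5, 15, 14, 19, 4, 17, 12, 9, 13, 6, 7, 10, 22, 21, 8, 2, 3, 16, 23]

/-- Two commuting involutions centralising `x5L`. -/
def vAL : List ℕ := [8, 14, 5, 12, 18, 2, 16, 17, 0, 22, 11, 10, 3, 20, 1, 21, 6, 7, 4, 23, 13, 15, 9, 19]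

/-- The second involution. -/
def vBL : List ℕ := [19, 9, 13, 7, 16, 20, 18, 3, 23, 1, 15, 21, 17, 2, 22, 10, 4, 12, 6, 0, 5, 11, 14, 8]

/-- The fixed points of `x3L`. -/
def fix3 : List ℕ := [0, 7, 10, 15, 19, 23]

/-- Elements centralising `x3L` with all possible images of the points 0 and 23. -/
def c3L : List (List ℕ) := [
  [0, 1, 8, 3, 2, 21, 20, 19, 6, 5, 15, 12, 16, 17, 14, 23, 13, 11, 22, 10, 4, 18, 9, 7],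
  [0, 1, 16, 3, 2, 20, 21, 15, 9, 5, 19, 4, 8, 17, 14, 23, 18, 22, 11, 7, 12, 13, 6, 10],
  [0, 1, 4, 3, 2, 9, 6, 10, 20, 5, 7, 16, 12, 17, 14, 23, 11, 13, 18, 19, 8, 22, 21, 15],
  [0, 1, 6, 3, 8, 18, 4, 10, 20, 21, 23, 16, 13, 11, 14, 7, 17, 12, 9, 15, 2, 22, 5, 19],
  [0, 1, 2, 3, 4, 5, 6, 7, 8, 9, 10, 11, 12, 13, 14, 15, 16, 17, 18, 19, 20, 21, 22, 23],
  [7, 8, 1, 11, 2, 14, 18, 10, 16, 5, 15, 22, 6, 17, 21, 23, 13, 3, 12, 19, 4, 20, 9, 0],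
  [7, 8, 16, 11, 1, 20, 4, 19, 18, 14, 23, 6, 13, 3, 21, 0, 17, 22, 9, 15, 2, 12, 5, 10],
  [7, 8, 4, 11, 2, 9, 16, 19, 18, 5, 0, 6, 22, 17, 21, 23, 3, 13, 20, 10, 1, 12, 14, 15],
  [7, 8, 6, 11, 1, 18, 5, 10, 20, 14, 15, 16, 2, 3, 21, 0, 9, 12, 17, 23, 13, 22, 4, 19],
  [7, 8, 2, 11, 1, 5, 18, 15, 4, 14, 10, 13, 6, 3, 21, 0, 22, 17, 12, 19, 16, 9, 20, 23],
  [10, 16, 1, 22, 2, 14, 13, 7, 8, 5, 19, 11, 9, 17, 20, 23, 18, 3, 4, 15, 12, 21, 6, 0],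
  [10, 16, 8, 22, 1, 21, 12, 15, 13, 14, 23, 9, 18, 3, 20, 0, 17, 11, 6, 19, 2, 4, 5, 7],
  [10, 16, 4, 22, 5, 9, 12, 7, 11, 17, 0, 21, 18, 2, 20, 23, 14, 13, 6, 19, 3, 8, 1, 15],
  [10, 16, 6, 22, 9, 18, 11, 0, 14, 13, 23, 1, 21, 4, 20, 15, 17, 12, 8, 7, 2, 3, 5, 19],
  [10, 16, 2, 22, 1, 5, 13, 19, 12, 14, 7, 18, 9, 3, 20, 0, 11, 17, 4, 15, 8, 6, 21, 23],
  [15, 4, 1, 13, 2, 14, 22, 19, 12, 5, 7, 18, 20, 17, 9, 23, 11, 3, 16, 10, 8, 6, 21, 0],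
  [15, 4, 8, 13, 2, 21, 12, 10, 22, 5, 0, 20, 18, 17, 9, 23, 3, 11, 6, 19, 1, 16, 14, 7],
  [15, 4, 16, 13, 5, 20, 8, 19, 18, 17, 0, 6, 11, 2, 9, 23, 14, 22, 21, 7, 3, 12, 1, 10],
  [15, 4, 6, 13, 3, 18, 17, 7, 21, 1, 10, 8, 5, 14, 9, 0, 20, 12, 2, 23, 22, 11, 16, 19],
  [15, 4, 2, 13, 1, 5, 22, 7, 8, 14, 19, 11, 20, 3, 9, 0, 18, 17, 16, 10, 12, 21, 6, 23],
  [19, 6, 1, 12, 8, 14, 22, 15, 13, 21, 23, 9, 20, 11, 18, 7, 17, 3, 16, 10, 2, 4, 5, 0],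
  [19, 6, 8, 12, 1, 21, 22, 23, 2, 14, 15, 17, 20, 3, 18, 0, 9, 11, 16, 10, 13, 5, 4, 7],
  [19, 6, 16, 12, 9, 20, 3, 7, 21, 13, 23, 8, 14, 4, 18, 15, 17, 22, 1, 0, 2, 11, 5, 10],
  [19, 6, 4, 12, 3, 9, 11, 23, 5, 1, 10, 2, 21, 14, 18, 0, 20, 13, 8, 7, 22, 17, 16, 15],
  [19, 6, 2, 12, 3, 5, 16, 15, 9, 1, 7, 4, 22, 14, 18, 0, 8, 17, 20, 10, 21, 13, 11, 23],
  [23, 2, 1, 17, 4, 14, 21, 19, 12, 9, 10, 18, 8, 13, 5, 15, 16, 3, 11, 7, 20, 6, 22, 0],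
  [23, 2, 8, 17, 1, 21, 9, 19, 6, 14, 10, 12, 4, 3, 5, 0, 22, 11, 13, 15, 16, 18, 20, 7],
  [23, 2, 16, 17, 1, 20, 6, 15, 9, 14, 7, 4, 12, 3, 5, 0, 11, 22, 18, 19, 8, 13, 21, 10],
  [23, 2, 4, 17, 1, 9, 21, 10, 20, 14, 19, 16, 8, 3, 5, 0, 18, 13, 11, 7, 12, 22, 6, 15],
  [23, 2, 6, 17, 3, 18, 13, 10, 22, 1, 7, 20, 9, 14, 5, 0, 8, 12, 4, 15, 21, 16, 11, 19]]

theorem lists_m24 : m24Test x3L = true ∧ m24Test x5L = true ∧ m24Test g5L = true ∧ m24Test vAL = true ∧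
    m24Test vBL = true ∧ ∀ L ∈ c3L, m24Test L = true := by
  refine ⟨?_, ?_, ?_, ?_, ?_, ?_⟩ <;> decide +kernel

theorem x3L_facts : compL x3L (compL x3L x3L) = List.range 24 ∧
    ((List.range 24).filter fun i => x3L.getD i 0 == i) = fix3 ∧
    (c3L.all fun L => compL L x3L == compL x3L L) = true ∧
    (fix3.all fun i => fix3.all fun j => i == j || c3L.any fun L => L.getD 0 0 == i && L.getD 23 0 == j) = true := by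
  refine ⟨?_, ?_, ?_, ?_⟩ <;> decide +kernel

theorem x5L_facts : compL x5L (compL x5L (compL x5L (compL x5L x5L))) = List.range 24 ∧
    ((List.range 24).filter fun i => x5L.getD i 0 == i) = [0, 8, 19, 23] ∧
    compL g5L x5L = compL (compL x5L x5L) g5L ∧ g5L.getD 0 0 = 0 ∧ g5L.getD 23 0 = 23 ∧
    compL vAL x5L = compL x5L vAL ∧ compL vBL x5L = compL x5L vBL ∧ compL vAL vBL = compL vBL vAL ∧
    compL vAL vAL = List.range 24 ∧ compL vBL vBL = List.range 24 ∧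
    vAL ≠ List.range 24 ∧ vBL ≠ List.range 24 ∧ vAL ≠ vBL := by
  refine ⟨?_, ?_, ?_, ?_, ?_, ?_, ?_, ?_, ?_, ?_, ?_, ?_, ?_⟩ <;> decide +kernel

end CfsgLib.MathieuBlocks
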