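import Cfsg.Agent.Lib.Blocks.LocalCentral
import Cfsg.Agent.Lib.Cores.Coprime

/-!
# Groups with a single 2-block

If every involution centraliser lies in a subgroup with a normal self-centralising 2-subgroup and
no irreducible character has 2-defect zero, then there is only one 2-block.
-/

set_option autoImplicit false
set_option linter.unusedSectionVars false
set_option linter.style.haveILetI false

open Cfsg

noncomputable section

namespace CfsgLib.MathieuBlocks

variable {G : Type*} [Group G] [Finite G]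

/-- The centraliser of `t` lies in a subgroup with a normal self-centralising 2-subgroup. -/
def InConstrained (t : G) : Prop :=
  ∃ L F : Subgroup G, Subgroup.centralizer ({t} : Set G) ≤ L ∧ F ≤ L ∧ IsPGroup 2 F ∧
    (∀ l ∈ L, ∀ f ∈ F, l * f * l⁻¹ ∈ F) ∧ ∀ l ∈ L, (∀ f ∈ F, l * f = f * l) → l ∈ F

theorem le_normalizer_of_conj {H A N : Subgroup G} (h : ∀ n ∈ N, ∀ a ∈ A, n * a * n⁻¹ ∈ A)
    (hle : H ≤ N) : H ≤ Subgroup.normalizer (A : Set G) := fun x hx =>
  Subgroup.mem_normalizer_iff.2 fun a => ⟨h x (hle hx) a, fun ha => by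
    simpa [mul_assoc] using h x⁻¹ (inv_mem (hle hx)) _ ha⟩

/-- A 2-radical subgroup contains its centraliser. -/
theorem centralizer_le_radical (hloc : ∀ t : G, orderOf t = 2 → InConstrained t) {R : Subgroup G}
    (hR : IsPGroup 2 R) (hne : R ≠ ⊥)
    (hrad : ∀ S : Subgroup G, IsPGroup 2 S → R ≤ S → S ≤ Subgroup.normalizer (R : Set G) →
      (∀ n ∈ Subgroup.normalizer (R : Set G), ∀ r ∈ S, n * r * n⁻¹ ∈ S) → S ≤ R) :
    Subgroup.centralizer (R : Set G) ≤ R := by
  classical
  haveI : Fact (Nat.Prime 2) := ⟨Nat.prime_two⟩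
  haveI : Nontrivial R := (Subgroup.nontrivial_iff_ne_bot R).2 hne
  haveI : Nontrivial (Subgroup.center R) := hR.center_nontrivial
  obtain ⟨t, ht⟩ : ∃ t : Subgroup.center R, orderOf t = 2 := by
    refine exists_prime_orderOf_dvd_card' 2 ?_
    obtain ⟨n, hn0, hn⟩ := (hR.to_subgroup (Subgroup.center R)).nontrivial_iff_card.1 inferInstance
    exact hn ▸ dvd_pow_self 2 hn0.ne'
  set N := Subgroup.normalizer (R : Set G) with hN
  set K := Subgroup.centralizer (R : Set G) with hK
  have ht' : orderOf (((t : R) : G)) = 2 := by rw [Subgroup.orderOf_coe, Subgroup.orderOf_coe, ht]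
  obtain ⟨L, F, hCL, hFL, hF, hFn, hFc⟩ := hloc _ ht'
  have hKC : K ≤ Subgroup.centralizer ({((t : R) : G)} : Set G) := fun k hk =>
    Subgroup.mem_centralizer_singleton_iff.2
      (Subgroup.mem_centralizer_iff.1 hk _ (t : R).2).symm
  have hRC : R ≤ Subgroup.centralizer ({((t : R) : G)} : Set G) := fun r hr =>
    Subgroup.mem_centralizer_singleton_iff.2
      (congrArg Subtype.val (Subgroup.mem_center_iff.1 t.2 ⟨r, hr⟩))
  -- normal 2-subgroups of `K` lie in `R`
  have hKN : ∀ n ∈ N, ∀ k ∈ K, n * k * n⁻¹ ∈ K := by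
    intro n hn k hk
    refine Subgroup.mem_centralizer_iff.2 fun r hr => ?_
    have h1 : n⁻¹ * r * n ∈ R := by
      have := (Subgroup.mem_normalizer_iff.1 (inv_mem hn) r).1 hr
      simpa using this
    have h2 := Subgroup.mem_centralizer_iff.1 hk _ h1
    calc r * (n * k * n⁻¹) = n * ((n⁻¹ * r * n) * k) * n⁻¹ := by group
      _ = n * (k * (n⁻¹ * r * n)) * n⁻¹ := by rw [h2]
      _ = n * k * n⁻¹ * r := by group
  have hFK : F ⊓ K ≤ R := by
    set O := (pCore 2 K).map K.subtype with hO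
    have hle : F ⊓ K ≤ O := by
      intro x hx
      haveI : ((F ⊓ K).subgroupOf K).Normal := ⟨fun y hy k => by
        refine ⟨hFn _ (hCL (hKC k.2)) _ hy.1, ?_⟩
        exact K.mul_mem (K.mul_mem k.2 y.2) (K.inv_mem k.2)⟩
      refine ⟨⟨x, hx.2⟩, CfsgLib.Cores.le_pCore (N := (F ⊓ K).subgroupOf K) ?_ hx, rfl⟩
      exact (hF.to_le inf_le_left).of_equiv
        (Subgroup.subgroupOfEquivOfLe (inf_le_right : F ⊓ K ≤ K)).symm
    have hOK : O ≤ K := Subgroup.map_subtype_le _
    have hON : ∀ n ∈ N, ∀ x ∈ O, n * x * n⁻¹ ∈ O := by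
      rintro n hn _ ⟨y, hy, rfl⟩
      let φ : K ≃* K :=
        { toFun := fun k => ⟨n * k * n⁻¹, hKN n hn k k.2⟩
          invFun := fun k => ⟨n⁻¹ * k * n, by simpa using hKN n⁻¹ (inv_mem hn) k k.2⟩
          left_inv := fun k => Subtype.ext (by simp [mul_assoc])
          right_inv := fun k => Subtype.ext (by simp [mul_assoc])
          map_mul' := fun a b => Subtype.ext (by simp [mul_assoc]) }
      exact ⟨φ y, (CfsgLib.Cores.map_pCore_equiv (p := 2) φ).le (Subgroup.mem_map_of_mem _ hy), rfl⟩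
    have hKN' : K ≤ N := Subgroup.centralizer_le_normalizer _
    refine le_trans (le_trans hle le_sup_right) (hrad (R ⊔ O) ?_ le_sup_left
      (sup_le Subgroup.le_normalizer (hOK.trans hKN')) fun n hn x hx => ?_)
    · exact hR.to_sup_of_normal_right' ((CfsgLib.Cores.isPGroup_pCore 2).map _)
        (le_normalizer_of_conj hON Subgroup.le_normalizer)
    · have hRn : ∀ r ∈ R, n * r * n⁻¹ ∈ R := fun r hr => (Subgroup.mem_normalizer_iff.1 hn r).1 hr
      have h1 : R ⊔ O ≤ (R ⊔ O).comap (MulAut.conj n).toMonoidHom :=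
        sup_le (fun r hr => Subgroup.mem_sup_left (hRn r hr))
          fun y hy => Subgroup.mem_sup_right (hON n hn y hy)
      exact h1 hx
  -- `K` is a 2-group
  have hKp : IsPGroup 2 K := by
    have hdvd : ∀ q : ℕ, q.Prime → q ∣ Nat.card K → q = 2 := by
      intro q hq hqK
      by_contra hq2
      haveI : Fact q.Prime := ⟨hq⟩
      obtain ⟨x, hx⟩ := exists_prime_orderOf_dvd_card' (G := K) q hqK
      have hx' : orderOf (x : G) = q := by rw [Subgroup.orderOf_coe, hx]
      have hcomm : ∀ q' ∈ F, Commute (x : G) q' := by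
        refine CfsgLib.Cores.axb hR hF ?_ ?_ ?_ ?_ ?_
        · exact fun r hr => Subgroup.mem_normalizer_iff.2 fun f => ⟨hFn r (hCL (hRC hr)) f, fun h => by
            simpa [mul_assoc] using hFn r⁻¹ (inv_mem (hCL (hRC hr))) _ h⟩
        · exact Subgroup.mem_normalizer_iff.2 fun f => ⟨hFn _ (hCL (hKC x.2)) f, fun h => by
            simpa [mul_assoc] using hFn _ (inv_mem (hCL (hKC x.2))) _ h⟩
        · rw [hx']; exact (Nat.coprime_primes hq Nat.prime_two).2 hq2
        · exact fun y hy => (Subgroup.mem_centralizer_iff.1 x.2 y hy).symm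
        · intro c hc hcR
          have : c ∈ R := hFK ⟨hc, Subgroup.mem_centralizer_iff.2 fun r hr => (hcR r hr).eq.symm⟩
          exact (Subgroup.mem_centralizer_iff.1 x.2 c this).symm
      have hxF : (x : G) ∈ F := hFc _ (hCL (hKC x.2)) fun f hf => (hcomm f hf).eq
      obtain ⟨m, hm⟩ := hF ⟨_, hxF⟩
      have hm' : (x : G) ^ 2 ^ m = 1 := congrArg Subtype.val hm
      have := (Nat.prime_dvd_prime_iff_eq hq Nat.prime_two).1
        (hq.dvd_of_dvd_pow (hx' ▸ orderOf_dvd_of_pow_eq_one hm'))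
      exact hq2 this
    exact IsPGroup.of_card (n := (Nat.card K).primeFactorsList.length)
      (Nat.eq_prime_pow_of_unique_prime_dvd Nat.card_pos.ne' fun {d} hd => hdvd d hd)
  intro k hk
  have hKN' : K ≤ N := Subgroup.centralizer_le_normalizer _
  refine hrad (R ⊔ K) (hR.to_sup_of_normal_right' hKp
    (le_normalizer_of_conj hKN Subgroup.le_normalizer)) le_sup_left
    (sup_le Subgroup.le_normalizer hKN') (fun n hn x hx => ?_) (Subgroup.mem_sup_right hk)
  have h1 : R ⊔ K ≤ (R ⊔ K).comap (MulAut.conj n).toMonoidHom :=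
    sup_le (fun r hr => Subgroup.mem_sup_left ((Subgroup.mem_normalizer_iff.1 hn r).1 hr))
      fun y hy => Subgroup.mem_sup_right (hKN n hn y hy)
  exact h1 hx

/-- Exactly one block. -/
theorem single_block (M : Ideal AlgInt) (hM : IsPModular 2 M)
    (hG : 2 ∣ Nat.card G) (hloc : ∀ t : G, orderOf t = 2 → InConstrained t)
    (hdz : ∀ χ : IrrCharacter G, ¬ 2 ^ (Nat.card G).factorization 2 ∣ charDegree (χ : G → ℂ))
    (χ ψ : IrrCharacter G) : SameBlock M (χ : G → ℂ) (ψ : G → ℂ) := by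
  classical
  have := hM.2.1
  haveI : Fact (Nat.Prime 2) := ⟨Nat.prime_two⟩
  letI := Fintype.ofFinite G
  obtain ⟨P⟩ : Nonempty (Sylow 2 G) := inferInstance
  have hPne : (P : Subgroup G) ≠ ⊥ := fun e => by
    have h := P.card_eq_multiplicity
    rw [e, Subgroup.card_bot] at h
    exact (Nat.one_lt_pow (Nat.prime_two.factorization_pos_of_dvd Nat.card_pos.ne' hG).ne'
      Nat.one_lt_two).ne h
  have hPC : Subgroup.centralizer ((P : Subgroup G) : Set G) ≤ (P : Subgroup G) :=
    centralizer_le_radical hloc P.2 hPne fun S hS hle _ _ => (P.3 hS hle).le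
  have hall : ∀ B : Set (IrrCharacter G), IsPBlock M B → IsDefectGroup 2 M B (P : Subgroup G) := by
    intro B hB
    obtain ⟨D, hD⟩ := CfsgLib.Blocks.exists_isDefectGroup (p := 2) hB
    by_cases hbot : D = ⊥
    · exfalso
      have hDc := CfsgLib.Blocks.card_defectGroup hM hB hD
      rw [hbot, Subgroup.card_bot] at hDc
      have hd0 : blockDefect 2 B = 0 := by
        by_contra h
        exact (Nat.one_lt_pow h Nat.one_lt_two).ne hDc
      obtain ⟨θ, hθ⟩ := CfsgLib.Blocks.IsPBlock.nonempty hB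
      have hle : sInf ((fun θ : IrrCharacter G => (charDegree (θ : G → ℂ)).factorization 2) '' B) ≤
          (charDegree (θ : G → ℂ)).factorization 2 := Nat.sInf_le ⟨θ, hθ, rfl⟩
      rw [blockDefect] at hd0
      have hpos : charDegree (θ : G → ℂ) ≠ 0 :=
        (Nat.pos_of_dvd_of_pos (CfsgLib.CharBlocks.charDegree_dvd_card θ.2) Nat.card_pos).ne'
      exact hdz θ ((Nat.Prime.pow_dvd_iff_le_factorization Nat.prime_two hpos).2 (by omega))
    · obtain ⟨P', hP'⟩ := CfsgLib.Blocks.LocalCentral.sylow_defect hM (Z := ⊥) bot_le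
        (fun R hR hne hrad => by rw [sup_bot_eq]; exact centralizer_le_radical hloc hR hne hrad)
        hB hD hbot
      obtain ⟨g, hg⟩ := MulAction.exists_smul_eq G P' P
      have h := CfsgLib.Blocks.IsDefectGroup.conj hB hD g
      rw [← hg, Sylow.coe_subgroup_smul, hP']
      exact h
  have hcard := CfsgLib.Blocks.card_blocks_sylow_defect hM P
  haveI : Subsingleton {C : ConjClasses (Subgroup.normalizer ((P : Subgroup G) : Set G)) //
      ∀ n : Subgroup.normalizer ((P : Subgroup G) : Set G), ConjClasses.mk n = C →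
        ¬ 2 ∣ orderOf n ∧ (n : G) ∈ Subgroup.centralizer ((P : Subgroup G) : Set G)} := by
    refine ⟨fun A B => Subtype.ext ?_⟩
    obtain ⟨a, ha⟩ := ConjClasses.mk_surjective A.1
    obtain ⟨b, hb⟩ := ConjClasses.mk_surjective B.1
    have h1 : ∀ n : Subgroup.normalizer ((P : Subgroup G) : Set G), ¬ 2 ∣ orderOf n →
        (n : G) ∈ Subgroup.centralizer ((P : Subgroup G) : Set G) → n = 1 := by
      intro n hn hc
      obtain ⟨k, hk⟩ := P.2 ⟨_, hPC hc⟩
      have hk' : n ^ 2 ^ k = 1 := Subtype.ext (by simpa using congrArg Subtype.val hk)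
      obtain ⟨j, -, hj⟩ := (Nat.dvd_prime_pow Nat.prime_two).1 (orderOf_dvd_of_pow_eq_one hk')
      rcases Nat.eq_zero_or_pos j with rfl | hj0
      · rwa [pow_zero, orderOf_eq_one_iff] at hj
      · exact absurd (hj ▸ dvd_pow_self 2 hj0.ne') hn
    rw [← ha, ← hb, h1 a (A.2 a ha).1 (A.2 a ha).2, h1 b (B.2 b hb).1 (B.2 b hb).2]
  haveI hsub : Subsingleton {B : Set (IrrCharacter G) //
      IsPBlock M B ∧ IsDefectGroup 2 M B (P : Subgroup G)} :=
    Finite.card_le_one_iff_subsingleton.1 (hcard ▸ Finite.card_le_one_iff_subsingleton.2 inferInstance)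
  have h1 := CfsgLib.Blocks.isPBlock_blockOf (M := M) χ
  have h2 := CfsgLib.Blocks.isPBlock_blockOf (M := M) ψ
  have he : blockOf M (χ : G → ℂ) = blockOf M (ψ : G → ℂ) :=
    congrArg Subtype.val (Subsingleton.elim (⟨_, h1, hall _ h1⟩ :
      {B : Set (IrrCharacter G) // IsPBlock M B ∧
        IsDefectGroup 2 M B (P : Subgroup G)}) ⟨_, h2, hall _ h2⟩)
  have : ψ ∈ blockOf M (χ : G → ℂ) := he ▸ CfsgLib.Blocks.mem_blockOf_self ψ
  exact this

end CfsgLib.MathieuBlocks
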