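import Cfsg.Agent.Lib.MathieuBlocks.Sums
import Cfsg.Agent.Lib.M24Cert.Cent
import Cfsg.Agent.Lib.M24Cert.SextetStab

/-!
# Fixed-point-free involutions are constrained
-/

set_option autoImplicit false
set_option linter.unusedSectionVars false
set_option linter.style.haveILetI false
set_option maxRecDepth 100000

open Cfsg CfsgLib.Golay CfsgLib.M24Cert

open scoped Pointwise

noncomputable section

namespace CfsgLib.MathieuBlocks

/-- Two points lie in one tetrad. -/
def sameTet (i j : ℕ) : Bool := anyB (fun t => t.testBit i && t.testBit j) tetMasks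

/-- Points in one tetrad are exchanged by the table, and others have different fixing elements. -/
def tetSepOk : Bool :=
  allLt (fun i => allLt (fun j =>
    cond (sameTet i j)
      (anyB (fun L => Nat.beq (getR L i) j) sexSquares)
      (anyB (fun L => Nat.beq (getR L i) i != Nat.beq (getR L j) j) sexSquares)) 24) 24

theorem tetSep : tetSepOk = true := by decide +kernel

theorem tet_part : allLt (fun i => anyB (fun t => t.testBit i) tetMasks) 24 = true ∧
    allB (fun t => allB (fun u => allLt (fun i => !(t.testBit i && u.testBit i) || Nat.beq t u) 24) tetMasks)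
      tetMasks = true ∧ sexSquares.length = 64 := by
  refine ⟨?_, ?_, ?_⟩ <;> decide +kernel

theorem sq_entry {L : List ℕ} (hL : L ∈ sexSquares) : validL 24 L = true ∧ pL L ∈ sqGroup sexSquares := by
  obtain ⟨hmem, -, -⟩ := sqGroup_spec tet_checks.2.1
  obtain ⟨i, hi, rfl⟩ := List.mem_iff_getElem.1 hL
  have hi64 : i < 64 := tet_part.2.2 ▸ hi
  have he : ent sexSquares i = sexSquares[i] := List.getD_eq_getElem _ _ hi
  have hv := tet_checks.2.1
  simp only [sqTableOk, Bool.and_eq_true, List.all_eq_true, List.mem_range] at hv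
  exact ⟨he ▸ (hv.1.2 i hi64).1.1, (hmem _).2 ⟨i, hi64, congrArg pL he⟩⟩

/-- An element of the sextet stabiliser commuting with the table lies in it. -/
theorem sq_self_centralising {g : Equiv.Perm GolayPt} (hg : g ∈ M24)
    (hc : ∀ f ∈ sqGroup sexSquares, g * f = f * g) : g ∈ sqGroup sexSquares := by
  have hsame : ∀ i < 24, ∃ j < 24, g (pt i) = pt j ∧ sameTet i j = true := by
    intro i hi
    obtain ⟨j, hj, e⟩ := exists_pt (g (pt i))
    refine ⟨j, hj, e.symm, ?_⟩
    by_contra hns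
    rw [Bool.not_eq_true] at hns
    have h := allLt_spec (allLt_spec tetSep i hi) j hj
    rw [hns, Bool.cond_false, anyB_iff] at h
    obtain ⟨L, hL, hne⟩ := h
    obtain ⟨hLv, hLm⟩ := sq_entry hL
    have h1 : pL L (pt i) = pt i ↔ pL L (pt j) = pt j := by
      rw [e, ← Equiv.Perm.mul_apply, ← hc _ hLm, Equiv.Perm.mul_apply, g.injective.eq_iff]
    rw [pL_pt hLv hi, pL_pt hLv hj] at h1
    have hb : ∀ k < 24, (pt (L.getD k 0) = pt k) ↔ Nat.beq (getR L k) k = true := fun k hk => by
      rw [getR_eq, Nat.beq_eq]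
      exact ⟨fun e => pt_inj (validL_getD_lt hLv hk) hk e, fun e => by rw [e]⟩
    rw [hb i hi, hb j hj] at h1
    cases hx : Nat.beq (getR L i) i <;> cases hy : Nat.beq (getR L j) j <;> simp [hx, hy] at h1 hne
  have hfix : g ∈ fixMasks tetMasks := by
    refine mem_fixMasks.2 ⟨hg, fun t ht => ?_⟩
    refine Finset.eq_of_subset_of_card_le (fun y hy => ?_) (by rw [Finset.card_smul_finset])
    obtain ⟨x, hx, rfl⟩ := Finset.mem_smul_finset.1 hy
    obtain ⟨i, hi, rfl⟩ := exists_pt x
    obtain ⟨j, hj, e, hs⟩ := hsame i hi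
    rw [Equiv.Perm.smul_def, e, pt_mem_toSet hj]
    rw [pt_mem_toSet hi] at hx
    obtain ⟨u, hu, hb⟩ := anyB_iff.1 hs
    simp only [Bool.and_eq_true] at hb
    have hd := allB_iff.1 (allB_iff.1 tet_part.2.1 t ht) u hu
    have := allLt_spec hd i hi
    simp only [hx, hb.1, Bool.and_self, Bool.not_true, Bool.false_or, Nat.beq_eq] at this
    exact this ▸ hb.2
  refine tet_square hfix (Equiv.ext fun x => ?_)
  obtain ⟨i, hi, rfl⟩ := exists_pt x
  obtain ⟨j, hj, e, hs⟩ := hsame i hi
  have h := allLt_spec (allLt_spec tetSep i hi) j hj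
  rw [hs, Bool.cond_true, anyB_iff] at h
  obtain ⟨L, hL, he⟩ := h
  obtain ⟨hLv, hLm⟩ := sq_entry hL
  have hf : pL L (pt i) = g (pt i) := by rw [pL_pt hLv hi, e, ← getR_eq, Nat.eq_of_beq_eq_true he]
  have hsq := (sqGroup_spec tet_checks.2.1).2.2 _ hLm
  rw [Equiv.Perm.mul_apply, Equiv.Perm.one_apply, ← hf, ← Equiv.Perm.mul_apply, hc _ hLm, Equiv.Perm.mul_apply,
    ← hf, ← Equiv.Perm.mul_apply, hsq, Equiv.Perm.one_apply]

theorem smul_family_eq {g : Equiv.Perm GolayPt} {S : Finset (Finset GolayPt)} (h : ∀ x ∈ S, g • x = x) :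
    g • S = S := by
  refine Finset.eq_of_subset_of_card_le (fun y hy => ?_) (by rw [Finset.card_smul_finset])
  obtain ⟨x, hx, rfl⟩ := Finset.mem_smul_finset.1 hy
  rwa [h x hx]

attribute [local irreducible] sqGroup fixMasks Tbl.el

/-- A fixed-point-free involution is constrained. -/
theorem constrained_fpf (t : ↥M24) (ht : orderOf t = 2) (h0 : ∀ p, (t : Equiv.Perm GolayPt) p ≠ p) :
    InConstrained t := by
  obtain ⟨u, hu, ⟨et, -⟩ | ⟨-, h⟩⟩ := inv_cases t.2 (by rw [Subgroup.orderOf_coe]; exact ht)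
  swap
  · rw [fixed_card_zero_iff.2 h0] at h; omega
  set S := u • sexTbl.el 965 with hS
  obtain ⟨w, hw, hwS⟩ : ∃ w ∈ M24, w • sexTbl.el 776 = S := by
    refine sextets_transitive ?_
    rw [sextets_eq]
    exact Tbl.smul_mem sexTbl_closed hu ⟨965, (by decide : (965 : ℕ) < 1771), rfl⟩
  have hwle : sqGroup sexSquares ≤ fixMasks tetMasks := sqGroup_le_tet
  set φ : ↥M24 →* Equiv.Perm GolayPt := (MulAut.conj w⁻¹).toMonoidHom.comp M24.subtype with hφ
  have hφa : ∀ x : ↥M24, φ x = w⁻¹ * x * w := fun x => by simp [hφ, MulAut.conj_apply]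
  have hφinj : Function.Injective φ := (MulAut.conj w⁻¹).injective.comp Subtype.val_injective
  have hφm : ∀ x : ↥M24, φ x ∈ M24 := fun x => by
    rw [hφa]; exact mul_mem (mul_mem (inv_mem hw) x.2) hw
  refine ⟨(MulAction.stabilizer (Equiv.Perm GolayPt) S).subgroupOf M24, (sqGroup sexSquares).comap φ,
    fun c hc => ?_, fun f hf => ?_, ?_, fun l hl f hf => ?_, fun l hl hcomm => ?_⟩
  · refine Subgroup.mem_subgroupOf.2 ?_
    show (c : Equiv.Perm GolayPt) • S = S
    have hct := congrArg Subtype.val (Subgroup.mem_centralizer_singleton_iff.1 hc)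
    simp only [Subgroup.coe_mul, et] at hct
    have hm : u⁻¹ * (c : Equiv.Perm GolayPt) * u ∈ centT := by
      refine mem_centT.2 ⟨mul_mem (mul_mem (inv_mem hu) c.2) hu, ?_⟩
      calc u⁻¹ * (c : Equiv.Perm GolayPt) * u * pL elT.L
          = u⁻¹ * ((c : Equiv.Perm GolayPt) * (u * pL elT.L * u⁻¹)) * u := by group
        _ = _ := by rw [hct]; group
    have h := centT_fixes_sextet hm
    rw [mul_smul, mul_smul, inv_smul_eq_iff] at h
    exact h
  · refine Subgroup.mem_subgroupOf.2 ?_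
    show (f : Equiv.Perm GolayPt) • S = S
    have h1 := (mem_fixMasks_tet.1 (hwle (Subgroup.mem_comap.1 hf))).2
    have h2 : φ f • sexTbl.el 776 = sexTbl.el 776 := smul_family_eq h1
    rw [hφa, mul_smul, mul_smul, inv_smul_eq_iff, hwS] at h2
    exact h2
  · intro x
    refine ⟨1, ?_⟩
    refine Subtype.ext (hφinj ?_)
    rw [pow_one, SubmonoidClass.coe_pow, pow_two, map_mul,
      (sqGroup_spec tet_checks.2.1).2.2 _ (Subgroup.mem_comap.1 x.2), Subgroup.coe_one, map_one]
  · refine Subgroup.mem_comap.2 ?_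
    rw [map_mul, map_mul, map_inv]
    have hfT := (mem_fixMasks_tet.1 (hwle (Subgroup.mem_comap.1 hf))).2
    have hlS : φ l • sexTbl.el 776 = sexTbl.el 776 := by
      rw [hφa, mul_smul, mul_smul, hwS, inv_smul_eq_iff, hwS]
      exact Subgroup.mem_subgroupOf.1 hl
    refine tet_square (mem_fixMasks_tet.2 ⟨mul_mem (mul_mem (hφm l) (hφm f)) (inv_mem (hφm l)), fun x hx => ?_⟩) ?_
    · have hx' : (φ l)⁻¹ • x ∈ sexTbl.el 776 := by
        rw [← Finset.mem_inv_smul_finset_iff] 
        simpa [hlS] using hx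
      rw [mul_smul, mul_smul, hfT _ hx', smul_inv_smul]
    · rw [show φ l * φ f * (φ l)⁻¹ * (φ l * φ f * (φ l)⁻¹) = φ l * (φ f * φ f) * (φ l)⁻¹ by group,
        (sqGroup_spec tet_checks.2.1).2.2 _ (Subgroup.mem_comap.1 hf), mul_one, mul_inv_cancel]
  · refine Subgroup.mem_comap.2 (sq_self_centralising (hφm l) fun f hf => ?_)
    have hfM : f ∈ M24 := (mem_fixMasks.1 (hwle hf)).1
    have e : φ ⟨w * f * w⁻¹, mul_mem (mul_mem hw hfM) (inv_mem hw)⟩ = f := by
      rw [hφa]
      show w⁻¹ * (w * f * w⁻¹) * w = f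
      group
    have h := congrArg φ (hcomm ⟨w * f * w⁻¹, mul_mem (mul_mem hw hfM) (inv_mem hw)⟩
      (Subgroup.mem_comap.2 (e.symm ▸ hf)))
    rwa [map_mul, map_mul, e] at h

end CfsgLib.MathieuBlocks
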