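import Cfsg.Agent.Lib.MathieuBlocks.Odd
import Cfsg.Agent.Lib.MathieuBlocks.Sextet

/-!
# The full group has one 2-block
-/

set_option autoImplicit false
set_option linter.unusedSectionVars false
set_option linter.style.haveILetI false

open Cfsg CfsgLib.Golay CfsgLib.M24Cert

open scoped Pointwise ComplexConjugate

noncomputable section

namespace CfsgLib.MathieuBlocks

section Char

variable {G : Type*} [Group G] [Fintype G] {χ : G → ℂ} (hχ : Cfsg.IsIrrCharacter G χ)

include hχ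

/-- The value at an element conjugate to its nontrivial powers is an integer. -/
theorem int_value_powers {n : ℕ} (hn : 2 ≤ n) {d : ℕ} (hd : χ 1 = d) {x : G} (hx : orderOf x = n)
    (hconj : ∀ i, 0 < i → i < n → IsConj x (x ^ i)) :
    ∃ a : ℤ, χ x = a ∧ (n : ℤ) ∣ (d : ℤ) + ((n : ℤ) - 1) * a := by
  have hcl := CfsgLib.Char.isClassFunction_of_isIrr hχ
  obtain ⟨m, hm⟩ := sum_powers hχ x
  rw [hx, Finset.range_eq_Ico, ← Finset.insert_Ico_succ_left_eq_Ico (show 0 < n by omega),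
    Finset.sum_insert (by simp), pow_zero, hd,
    Finset.sum_congr rfl (g := fun _ => χ x) (fun i hi => ?_), Finset.sum_const, nsmul_eq_mul] at hm
  · have e : (((n : ℤ) - 1 : ℤ) : ℂ) * χ x = (((n : ℤ) * m - d : ℤ) : ℂ) := by
      simp only [Nat.card_Ico, Order.succ_eq_add_one, zero_add] at hm
      push_cast [Nat.cast_sub (show 1 ≤ n by omega)] at hm ⊢
      linear_combination hm
    obtain ⟨a, ha⟩ := int_of_mul_eq (CfsgLib.Char.char_isIntegral (CfsgLib.Char.isCharacter_of_isIrr hχ) x)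
      (by omega) e
    refine ⟨a, ha, m, ?_⟩
    rw [ha] at e
    have e' : ((n : ℤ) - 1) * a = (n : ℤ) * m - d := by exact_mod_cast e
    rw [e']; ring
  · rw [Finset.mem_Ico, Order.succ_eq_add_one] at hi
    obtain ⟨c, hc⟩ := isConj_iff.1 (hconj i (by omega) hi.2)
    rw [← hc]; exact hcl x c

theorem value_inv (g : G) : χ g⁻¹ = conj (χ g) := CfsgLib.Char.char_inv (CfsgLib.Char.isCharacter_of_isIrr hχ) g

/-- Bounds for a value with integral trace and norm. -/
theorem pair_bounds (h1 : χ 1 ≠ 1) (x : G) {g N : ℤ} (hg : χ x + conj (χ x) = (g : ℂ))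
    (hN : χ x * conj (χ x) = (N : ℂ)) {C : ℕ}
    (hC : Nat.card (Subgroup.centralizer ({x} : Set G)) ≤ C) :
    g ^ 2 ≤ 4 * N ∧ N + 1 ≤ (C : ℤ) ∧ (conj (χ x) = χ x ∨ 2 * N + 1 ≤ (C : ℤ)) := by
  have hNr : Complex.normSq (χ x) = (N : ℝ) := by
    rw [Complex.mul_conj] at hN
    exact_mod_cast hN
  have hgr : 2 * (χ x).re = (g : ℝ) := by
    rw [Complex.add_conj] at hg
    exact_mod_cast hg
  have hC' : (Nat.card (Subgroup.centralizer ({x} : Set G)) : ℝ) ≤ C := by exact_mod_cast hC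
  refine ⟨?_, ?_, ?_⟩
  · have h3 : (g : ℝ) ^ 2 ≤ 4 * (N : ℝ) := by
      rw [← hNr, ← hgr, Complex.normSq_apply]
      nlinarith [mul_self_nonneg (χ x).im]
    exact_mod_cast h3
  · have h := (normSq_add_one_le hχ h1 x).trans hC'
    rw [hNr] at h
    exact_mod_cast h
  · by_cases hr : conj (χ x) = χ x
    · exact Or.inl hr
    · have h := (two_normSq_add_one_le hχ h1 hr).trans hC'
      rw [hNr] at h
      exact Or.inr (by exact_mod_cast h)

end Char

/-- The restriction to the octad, on the complement. -/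
def resK (o : Finset GolayPt) (r : GolayPt) : ↥(octPointStab o r) →* Equiv.Perm ↥o :=
  (resHom o).comp (Subgroup.inclusion (inf_le_left : octPointStab o r ≤ octStab o))

theorem resK_facts {o : Finset GolayPt} (ho : o ∈ octads) {r : GolayPt} (hr : r ∉ o) :
    Function.Injective (resK o r) ∧ (resK o r).range = alternatingGroup ↥o :=
  octPointStab_restrict ho hr

/-- An element of the reference type and its conjugacy in the stabiliser. -/
theorem ref_element {o : Finset GolayPt} (ho : o ∈ octads) {r : GolayPt} (hr : r ∉ o)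
    (σ₀ d₀ : Equiv.Perm (Fin 8)) {n : ℕ} (hn : Odd n) (hσ : orderOf σ₀ = n) (hd : Equiv.Perm.sign d₀ = -1)
    (hd' : d₀ * σ₀ * d₀⁻¹ = σ₀ ∨ d₀ * σ₀ * d₀⁻¹ = σ₀⁻¹)
    (huniq : ∀ m ∈ oddTypes, ∀ m' ∈ oddTypes, m.lcm = n → m'.lcm = n → m = m') :
    ∃ g₀ : ↥M24, (g₀ : Equiv.Perm GolayPt) ∈ octPointStab o r ∧ orderOf g₀ = n ∧
      ∀ g : ↥M24, (g : Equiv.Perm GolayPt) ∈ octPointStab o r → orderOf g = n →
        IsConj g₀ g ∨ IsConj g₀⁻¹ g := by
  classical
  let e : Fin 8 ≃ ↥o := (o.equivFinOfCardEq ho.2).symm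
  let P : Equiv.Perm (Fin 8) ≃* Equiv.Perm ↥o := e.permCongrHom
  obtain ⟨hinj, hrange⟩ := resK_facts ho hr
  set R := resK o r with hR
  have h8 : Fintype.card ↥o ≤ 8 := by rw [Fintype.card_coe, ho.2]
  have hσo : orderOf (P σ₀) = n := (orderOf_injective P.toMonoidHom P.injective σ₀).trans hσ
  have hσm : (P σ₀).cycleType ∈ oddTypes := cycleType_mem_oddTypes h8 (hσo ▸ hn)
  have hlift : ∀ σ : Equiv.Perm ↥o, Equiv.Perm.sign σ = 1 → ∃ k : ↥(octPointStab o r), R k = σ := fun σ h => by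
    have : σ ∈ R.range := by rw [hrange, Equiv.Perm.mem_alternatingGroup]; exact h
    exact this
  have hmem : ∀ k : ↥(octPointStab o r), (k : Equiv.Perm GolayPt) ∈ M24 := fun k => k.2.1.1
  obtain ⟨k₀, hk₀⟩ := hlift _ (sign_of_mem_oddTypes hσm)
  have hord : ∀ k : ↥(octPointStab o r), orderOf (⟨k, hmem k⟩ : ↥M24) = orderOf (R k) := fun k => by
    rw [orderOf_injective R hinj, ← Subgroup.orderOf_coe (⟨k, hmem k⟩ : ↥M24)]
    exact orderOf_injective (octPointStab o r).subtype Subtype.val_injective k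
  refine ⟨⟨k₀, hmem k₀⟩, k₀.2, by rw [hord, hk₀, hσo], fun g hg hgn => ?_⟩
  have hgo : orderOf (R ⟨g, hg⟩) = n := by rw [← hord]; exact hgn
  have htype : (R ⟨g, hg⟩).cycleType = (P σ₀).cycleType :=
    huniq _ (cycleType_mem_oddTypes h8 (hgo ▸ hn)) _ hσm (by rw [Equiv.Perm.lcm_cycleType, hgo])
      (by rw [Equiv.Perm.lcm_cycleType, hσo])
  obtain ⟨c, hc, hcase⟩ := conj_even htype (d₀ := P d₀)
    (by show Equiv.Perm.sign (e.permCongr d₀) = -1; rw [Equiv.Perm.sign_permCongr, hd])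
    (by rcases hd' with h | h
        · left; rw [← map_inv, ← map_mul, ← map_mul, h]
        · right; rw [← map_inv, ← map_mul, ← map_mul, h, map_inv])
  obtain ⟨γ, hγ⟩ := hlift c hc
  rw [← hγ, ← hk₀] at hcase
  rcases hcase with h | h
  · left
    rw [← map_inv, ← map_mul, ← map_mul] at h
    refine isConj_iff.2 ⟨⟨γ, hmem γ⟩, Subtype.ext ?_⟩
    exact (congrArg Subtype.val (hinj h)).symm
  · right
    rw [← map_inv, ← map_inv, ← map_mul, ← map_mul] at h
    refine isConj_iff.2 ⟨⟨γ, hmem γ⟩, Subtype.ext ?_⟩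
    exact (congrArg Subtype.val (hinj h)).symm

theorem ref_facts : orderOf refSeven = 7 ∧ orderOf refFifteen = 15 ∧
    (∀ m ∈ oddTypes, ∀ m' ∈ oddTypes, m.lcm = 7 → m'.lcm = 7 → m = m') ∧
    (∀ m ∈ oddTypes, ∀ m' ∈ oddTypes, m.lcm = 15 → m'.lcm = 15 → m = m') := by
  haveI : Fact (Nat.Prime 7) := ⟨by norm_num⟩
  refine ⟨orderOf_eq_prime (by decide +kernel) (by decide +kernel), ?_, by decide +kernel, by decide +kernel⟩
  refine (orderOf_eq_iff (by norm_num)).2 ⟨by decide +kernel, ?_⟩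
  have : ∀ m < 15, 0 < m → refFifteen ^ m ≠ 1 := by decide +kernel
  exact fun m h h' => this m h h'

theorem rev_facts :
    (Equiv.Perm.sign (Equiv.swap (0 : Fin 8) 6 * Equiv.swap 1 5 * Equiv.swap 2 4) = -1 ∧
      (Equiv.swap (0 : Fin 8) 6 * Equiv.swap 1 5 * Equiv.swap 2 4) * refSeven *
        (Equiv.swap (0 : Fin 8) 6 * Equiv.swap 1 5 * Equiv.swap 2 4)⁻¹ = refSeven⁻¹) ∧
    Equiv.Perm.sign (Equiv.swap (0 : Fin 8) 4 * Equiv.swap 1 3 * Equiv.swap 5 7) = -1 ∧
      (Equiv.swap (0 : Fin 8) 4 * Equiv.swap 1 3 * Equiv.swap 5 7) * refFifteen *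
        (Equiv.swap (0 : Fin 8) 4 * Equiv.swap 1 3 * Equiv.swap 5 7)⁻¹ = refFifteen⁻¹ := by
  refine ⟨⟨?_, ?_⟩, ?_, ?_⟩ <;> decide +kernel

theorem m24_arith_23 {k g N : ℤ} (hk : k = 1 ∨ k = 3 ∨ k = 5 ∨ k = 7 ∨ k = 9 ∨ k = 11 ∨ k = 15)
    (h1 : 23 ∣ 22 * g + 2 * (1024 * k)) (h2 : 23 ∣ 22 * N + (1024 * k) ^ 2) (hg : g ^ 2 ≤ 4 * N)
    (hN : N + 1 ≤ 23) (hr : (2 ∣ g ∧ 4 * N = g ^ 2) ∨ 2 * N + 1 ≤ 23) : k = 1 ∨ k = 3 ∨ k = 15 := by
  have hb : -9 ≤ g ∧ g ≤ 9 := by constructor <;> nlinarith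
  obtain ⟨hb1, hb2⟩ := hb
  rcases hk with rfl | rfl | rfl | rfl | rfl | rfl | rfl <;> norm_num at h1 h2 ⊢ <;>
    interval_cases g <;> omega

theorem m24_arith {k a b h e : ℤ} (hk : k = 1 ∨ k = 3 ∨ k = 15)
    (heq : 8 * k + 49 * a + 672 * b + 360 * h + 168 * e = 0) (h5 : 5 ∣ 16 * b + 1024 * k)
    (hb : -1 ≤ b ∧ b ≤ 1) (h7 : 7 ∣ 12 * h + 2048 * k) (hh : -6 ≤ h ∧ h ≤ 6)
    (hodd : 2 ∣ h ∨ (-4 ≤ h ∧ h ≤ 4)) (he : -7 ≤ e ∧ e ≤ 7) (h3 : 3 ∣ 2 * a + 1024 * k)
    (h15 : 15 ∣ 8 * e + 2 * (1024 * k + 2 * a + 16 * b)) : False := by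
  obtain ⟨hb1, hb2⟩ := hb
  obtain ⟨hh1, hh2⟩ := hh
  rcases hk with rfl | rfl | rfl <;> interval_cases h <;> interval_cases b <;> omega

theorem seven_pow_cases {i : ℕ} (h0 : 0 < i) (h7 : i < 7) {G : Type*} [Group G] {x : G} (hx : orderOf x = 7) :
    orderOf (x ^ i) = 7 := by
  rw [orderOf_pow' _ (by omega), hx]
  interval_cases i <;> norm_num

set_option maxHeartbeats 1000000 in
/-- There is no character of 2-defect zero. -/
theorem m24_no_defect_zero (χ : IrrCharacter ↥M24) :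
    ¬ 2 ^ (Nat.card ↥M24).factorization 2 ∣ charDegree (χ : ↥M24 → ℂ) := by
  classical
  intro hdiv
  letI := Fintype.ofFinite ↥M24
  obtain ⟨k, hd, hkr, hne, hlt, hvan⟩ := exists_degree (a := 10) (r := 239085) (by rw [card_M24]; norm_num)
    (by norm_num) (by norm_num) χ hdiv
  have hχ := χ.2
  have hd1 : (χ : ↥M24 → ℂ) 1 ≠ 1 := by rw [hd]; exact_mod_cast hne
  have hcl := CfsgLib.Char.isClassFunction_of_isIrr hχ
  have hk15 : k ≤ 15 := by
    by_contra hc
    have h6 : 16 ≤ k := by omega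
    have := Nat.mul_le_mul h6 h6
    norm_num at hlt
    nlinarith
  have hk7 : k = 1 ∨ k = 3 ∨ k = 5 ∨ k = 7 ∨ k = 9 ∨ k = 11 ∨ k = 15 := by
    interval_cases k <;> norm_num at hkr <;> omega
  -- order twenty-three
  have hk3 : (k : ℤ) = 1 ∨ (k : ℤ) = 3 ∨ (k : ℤ) = 15 := by
    obtain ⟨hxm, hx23, -, -⟩ := xTrans_facts
    set x : ↥M24 := ⟨xTrans, hxm⟩ with hx
    have hxo : orderOf x = 23 := by rw [← Subgroup.orderOf_coe]; exact hx23
    obtain ⟨c, hc⟩ := xTrans_conj_sq
    have hpow : ∀ j : ℕ, (χ : ↥M24 → ℂ) (x ^ (2 ^ j)) = (χ : ↥M24 → ℂ) x := by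
      intro j
      induction j with
      | zero => rw [pow_zero, pow_one]
      | succ j ih =>
        rw [← ih, pow_succ', pow_mul, ← hc, conj_pow]
        exact hcl _ c
    have hv : ∀ i ∈ Finset.Ico 1 23, (χ : ↥M24 → ℂ) (x ^ i) = (χ : ↥M24 → ℂ) x ∨
        (χ : ↥M24 → ℂ) (x ^ i) = conj ((χ : ↥M24 → ℂ) x) := by
      intro i hi
      rw [Finset.mem_Ico] at hi
      have key : ∀ i < 23, 0 < i → ∃ j < 11, 2 ^ j % 23 = i ∨ (2 ^ j % 23 + i) = 23 := by decide
      obtain ⟨j, -, hj | hj⟩ := key i hi.2 (by omega)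
      · left
        rw [← hj, ← hxo, pow_mod_orderOf, hpow]
      · right
        have e : x ^ i = (x ^ (2 ^ j % 23))⁻¹ := by
          refine eq_inv_of_mul_eq_one_left ?_
          rw [← pow_add, show i + 2 ^ j % 23 = orderOf x by omega, pow_orderOf_eq_one]
        rw [e, value_inv hχ, ← hxo, pow_mod_orderOf, hpow]
    obtain ⟨g, N, hg, hN, d1, d2⟩ := pair_rel hχ x hxo (Finset.Ico 1 23)
      (fun i hi => Finset.mem_range.2 (Finset.mem_Ico.1 hi).2) ⟨1, by simp⟩ hv
      (fun _ => (2 ^ 10 * k : ℕ)) (fun i hi => by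
        have hi0 : i = 0 := by simp at hi; omega
        rw [hi0, pow_zero, hd]; push_cast; rfl)
    rw [show Finset.range 23 \ Finset.Ico 1 23 = {0} by decide, Finset.sum_singleton, Nat.card_Ico] at d1 d2
    obtain ⟨hb1, hb2, hb3⟩ := pair_bounds hχ hd1 x hg hN (C := 23)
      (by rw [card_cent_eq]; exact cent_xTrans)
    refine m24_arith_23 (N := N) (g := g) (by exact_mod_cast hk7) (by push_cast at d1 ⊢; norm_num at d1 ⊢; exact d1)
      (by push_cast at d2 ⊢; norm_num at d2 ⊢; exact d2) hb1 (by exact_mod_cast hb2) ?_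
    rcases hb3 with hr | hr
    · left
      rw [hr] at hg hN
      obtain ⟨z, hz⟩ := int_of_mul_eq (CfsgLib.Char.char_isIntegral (CfsgLib.Char.isCharacter_of_isIrr hχ) x)
        (q := 2) (a := g) two_ne_zero (by push_cast; rw [two_mul]; exact hg)
      rw [hz] at hg hN
      have hg' : z + z = g := by exact_mod_cast hg
      have hN' : z * z = N := by exact_mod_cast hN
      exact ⟨⟨z, by omega⟩, by rw [← hg', ← hN']; ring⟩
    · exact Or.inr (by exact_mod_cast hr)
  -- order three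
  have hD := inv_facts
  set D : ↥M24 := ⟨pL elD.L, hD.2.2.2.2.2.2.1⟩ with hDdef
  have hDo : orderOf D = 3 := by rw [← Subgroup.orderOf_coe]; exact hD.2.2.2.2.1
  have hD6 : (Finset.univ.filter fun p => pL elD.L p = p).card = 6 := by
    rw [fixN_card certs_ok.2.2.2.2.2.1, rep_facts.2.2.1]
  have hthree : ∀ g : ↥M24, orderOf g = 3 → ∀ p, (g : Equiv.Perm GolayPt) p = p →
      IsConj D g ∧ (Finset.univ.filter fun p => (g : Equiv.Perm GolayPt) p = p).card = 6 := by
    intro g hg p hp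
    obtain ⟨u, hu, ⟨e, h6⟩ | ⟨-, h0⟩⟩ := three_cases g.2 (by rw [Subgroup.orderOf_coe]; exact hg)
    · exact ⟨isConj_iff.2 ⟨⟨u, hu⟩, Subtype.ext e.symm⟩, h6⟩
    · exact absurd hp (fixed_card_zero_iff.1 h0 p)
  obtain ⟨a, ha, h3dvd⟩ := int_value_powers hχ (n := 3) (by norm_num) hd hDo fun i h0 h3 => by
    obtain ⟨p, hp⟩ := Finset.card_pos.1 (hD6 ▸ (by norm_num : 0 < 6))
    refine (hthree _ ?_ p ?_).1
    · rw [orderOf_pow' _ (by omega), hDo]
      interval_cases i <;> norm_num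
    · rw [Subgroup.coe_pow]
      exact Equiv.Perm.pow_apply_eq_self_of_apply_eq_self (Finset.mem_filter.1 hp).2 i
  have ha3 : ∀ g : ↥M24, orderOf g = 3 → ∀ p, (g : Equiv.Perm GolayPt) p = p → (χ : ↥M24 → ℂ) g = a := by
    intro g hg p hp
    obtain ⟨c, hc⟩ := isConj_iff.1 (hthree g hg p hp).1
    rw [← hc, hcl D c, ha]
  -- order five
  have ho5 : orderOf (⟨xFive, xFive_mem⟩ : ↥M24) = 5 := by rw [← Subgroup.orderOf_coe]; exact orderOf_xFive
  obtain ⟨a5, ha5, h5dvd⟩ := int_value hχ (by norm_num : Nat.Prime 5) hd ho5 fun g hg => five_conj_M24 hg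
  obtain ⟨b, hb⟩ : ∃ b : ℤ, a5 = 4 * b := by
    obtain ⟨A, hA, hAle⟩ := xFive_four
    have hi := CfsgLib.Char.isIntegral_div_of_defect_zero hχ Nat.prime_two (n := 10)
      (by rw [card_M24]; norm_num) (by rw [card_M24]; norm_num) hd (dvd_mul_right _ _) hA hAle
    rw [ha5 _ ho5] at hi
    obtain ⟨b, hb⟩ := int_of_mul_eq hi (q := 4) (a := a5) (by norm_num) (by push_cast; ring)
    refine ⟨b, ?_⟩
    have : (a5 : ℂ) = ((4 * b : ℤ) : ℂ) := by rw [Int.cast_mul, ← hb]; push_cast; ring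
    exact_mod_cast this
  have hb5 : a5 ^ 2 + 1 ≤ (60 : ℤ) := by
    refine sq_add_one_le hχ hd1 (ha5 _ ho5) (c := 60) ?_
    rw [card_cent_eq]
    exact centFive_M24
  -- the octad
  have ho : toSet baseOctad ∈ octads := baseOctad_mem
  obtain ⟨r, hr⟩ : ∃ r, r ∉ toSet baseOctad := ⟨pt 5, by rw [pt_mem_toSet (by omega)]; decide +kernel⟩
  obtain ⟨hs7, hs15, hu7, hu15⟩ := ref_facts
  obtain ⟨⟨hr7, hr7'⟩, hr15, hr15'⟩ := rev_facts
  obtain ⟨g7, hg7K, hg7o, hg7⟩ := ref_element ho hr refSeven _ (by decide) hs7 hr7 (Or.inr hr7') hu7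
  obtain ⟨gF, hgFK, hgFo, hgF⟩ := ref_element ho hr refFifteen _ (by decide) hs15 hr15 (Or.inr hr15') hu15
  set z := (χ : ↥M24 → ℂ) g7 with hz
  set w := (χ : ↥M24 → ℂ) gF with hw
  have hval : ∀ (g₀ : ↥M24) (g : ↥M24), IsConj g₀ g ∨ IsConj g₀⁻¹ g →
      (χ : ↥M24 → ℂ) g = (χ : ↥M24 → ℂ) g₀ ∨ (χ : ↥M24 → ℂ) g = conj ((χ : ↥M24 → ℂ) g₀) := by
    intro g₀ g h
    rcases h with h | h
    · obtain ⟨c, hc⟩ := isConj_iff.1 h
      left; rw [← hc]; exact hcl _ c
    · obtain ⟨c, hc⟩ := isConj_iff.1 h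
      right; rw [← hc, hcl _ c, value_inv hχ]
  -- order seven
  obtain ⟨c7, N7, hc7, hN7, d7, -⟩ := pair_rel hχ g7 hg7o (Finset.Ico 1 7)
    (fun i hi => Finset.mem_range.2 (Finset.mem_Ico.1 hi).2) ⟨1, by simp⟩ (z := z)
    (fun i hi => hval g7 _ (hg7 _ (by rw [Subgroup.coe_pow]; exact pow_mem hg7K i)
      (seven_pow_cases (by simp at hi; omega) (by simp at hi; omega) hg7o)))
    (fun _ => (2 ^ 10 * k : ℕ)) (fun i hi => by
      have hi0 : i = 0 := by simp at hi; omega
      rw [hi0, pow_zero, hd]; push_cast; rfl)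
  rw [show Finset.range 7 \ Finset.Ico 1 7 = {0} by decide, Finset.sum_singleton, Nat.card_Ico] at d7
  obtain ⟨hz1, hz2, hz3⟩ := pair_bounds hχ hd1 g7 hc7 hN7 (C := 42) (le_of_eq (cent_seven hg7o))
  have hz2i : IsIntegral ℤ (z / 2) := by
    obtain ⟨A, hA, hAle⟩ := seven_two hg7o
    have hi := CfsgLib.Char.isIntegral_div_of_defect_zero hχ Nat.prime_two (n := 10)
      (by rw [card_M24]; norm_num) (by rw [card_M24]; norm_num) hd (dvd_mul_right _ _) hA hAle
    simpa using hi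
  obtain ⟨h, hh⟩ : ∃ h : ℤ, c7 = 2 * h := by
    obtain ⟨h, hh⟩ := int_of_mul_eq (hz2i.add (hz2i.map (starRingEnd ℂ).toIntAlgHom)) (q := 2) (a := c7) two_ne_zero
      (by rw [← hc7]
          show ((2 : ℤ) : ℂ) * (z / 2 + conj (z / 2)) = _
          rw [map_div₀, show conj (2 : ℂ) = 2 from Complex.conj_ofNat 2]
          push_cast; ring)
    refine ⟨h, ?_⟩
    have hh' : z / 2 + conj z / 2 = (h : ℂ) := by
      rw [← hh]
      show _ = z / 2 + conj (z / 2)
      rw [map_div₀, show conj (2 : ℂ) = 2 from Complex.conj_ofNat 2]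
    have : (c7 : ℂ) = ((2 * h : ℤ) : ℂ) := by push_cast; rw [← hc7, ← hh']; ring
    exact_mod_cast this
  have hodd : 2 ∣ h ∨ (-4 ≤ h ∧ h ≤ 4) := by
    rcases hz3 with hre | hre
    · left
      rw [hre] at hc7
      obtain ⟨t, ht⟩ := int_of_mul_eq hz2i (q := 2) (a := h) two_ne_zero (by
        rw [hh] at hc7
        push_cast at hc7 ⊢
        linear_combination hc7 / 2)
      refine ⟨t, ?_⟩
      have : (h : ℂ) = ((2 * t : ℤ) : ℂ) := by
        rw [hh] at hc7
        push_cast at hc7 ⊢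
        rw [← ht]
        linear_combination -hc7 / 2
      exact_mod_cast this
    · right
      push_cast at hre
      constructor <;> nlinarith
  -- order fifteen
  have hF15 := fifteen_data gF.2 (by rw [Subgroup.orderOf_coe]; exact hgFo)
  have hFr : ((gF : Equiv.Perm GolayPt)) r = r := hgFK.2
  obtain ⟨e15, N15, he15, hN15, d15, -⟩ := pair_rel hχ gF hgFo ((Finset.range 15).filter fun i => Nat.gcd i 15 = 1)
    (Finset.filter_subset _ _) ⟨1, by decide⟩ (z := w)
    (fun i hi => by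
      obtain ⟨hi1, hi2⟩ := Finset.mem_filter.1 hi
      refine hval gF _ (hgF _ (by rw [Subgroup.coe_pow]; exact pow_mem hgFK i) ?_)
      have hi0 : i ≠ 0 := fun e => by rw [e] at hi2; norm_num at hi2
      rw [orderOf_pow' _ hi0, hgFo, Nat.gcd_comm, hi2, Nat.div_one])
    (fun i => if i = 0 then ((2 ^ 10 * k : ℕ) : ℤ) else if 3 ∣ i then a5 else a)
    (fun i hi => by
      obtain ⟨hi1, hi2⟩ := Finset.mem_sdiff.1 hi
      rw [Finset.mem_range] at hi1
      by_cases hi0 : i = 0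
      · rw [hi0, pow_zero, hd, if_pos rfl]; push_cast; rfl
      rw [if_neg hi0]
      have hord : orderOf (gF ^ i) = 15 / Nat.gcd 15 i := by rw [orderOf_pow' _ hi0, hgFo]
      have hall : ∀ i < 15, i ≠ 0 → i ∉ (Finset.range 15).filter (fun i => Nat.gcd i 15 = 1) →
          (3 ∣ i ∧ 15 / Nat.gcd 15 i = 5) ∨ (¬ 3 ∣ i ∧ 15 / Nat.gcd 15 i = 3) := by decide
      rcases hall i hi1 hi0 hi2 with ⟨h3, h5⟩ | ⟨h3, h5⟩
      · rw [if_pos h3, ha5 _ (hord.trans h5)]
      · rw [if_neg h3, ha3 _ (hord.trans h5) r (by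
          rw [Subgroup.coe_pow]; exact Equiv.Perm.pow_apply_eq_self_of_apply_eq_self hFr i)])
  rw [show Finset.range 15 \ (Finset.range 15).filter (fun i => Nat.gcd i 15 = 1) = {0, 3, 5, 6, 9, 10, 12} by decide,
    show ((Finset.range 15).filter fun i => Nat.gcd i 15 = 1).card = 8 by decide] at d15
  simp [Finset.sum_insert, show (3 : ℕ) ∣ 6 by norm_num, show (3 : ℕ) ∣ 9 by norm_num, show (3 : ℕ) ∣ 12 by norm_num,
    show ¬ (3 : ℕ) ∣ 5 by norm_num, show ¬ (3 : ℕ) ∣ 10 by norm_num] at d15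
  obtain ⟨he1, he2, -⟩ := pair_bounds hχ hd1 gF he15 hN15 (C := 15) (by
    rw [card_cent_eq]; exact cent_fifteen gF.2 (by rw [Subgroup.orderOf_coe]; exact hgFo))
  -- the equation
  letI : Fintype ↥((octStab (toSet baseOctad)).subgroupOf M24) := Fintype.ofFinite _
  have hidx : ((octStab (toSet baseOctad)).subgroupOf M24).index = 759 := by
    have h := ((octStab (toSet baseOctad)).subgroupOf M24).card_mul_index
    rw [Nat.card_congr (Subgroup.subgroupOfEquivOfLe (fun g hg => (mem_octStab.1 hg).1)).toEquiv,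
      card_octStab ho, card_M24] at h
    omega
  have hzero := sum_subgroup_eq_zero hχ ((octStab (toSet baseOctad)).subgroupOf M24) hd (by
    rw [hidx]; norm_num; nlinarith [Nat.pos_of_ne_zero (fun e : k = 0 => by rw [e] at hkr; norm_num at hkr)])
  have heq := octad_equation ho hr le_rfl (fun g hg => (mem_octFix.1 hg).1) (χ : ↥M24 → ℂ)
    (fun g h => hcl g h) hvan hzero (fun _ => True) (fun _ _ _ => trivial) (fun g hg _ => hg.1.1)
    (fun m => if m = 0 then ((2 ^ 10 * k : ℕ) : ℂ) else if m = {3} then 16 * (a : ℂ) else if m = {3, 3} then 4 * (a : ℂ)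
      else if m = {5} then 16 * (a5 : ℂ) else if m = {7} then 4 * (c7 : ℂ) else 8 * (e15 : ℂ))
    (fun g hg m hm htype hord => by
      have hgr : (g : Equiv.Perm GolayPt) r = r := hg.2
      have hgo : orderOf (g : Equiv.Perm GolayPt) = m.lcm := by rw [Subgroup.orderOf_coe]; exact hord
      simp only [oddTypes, Finset.mem_insert, Finset.mem_singleton] at hm
      rcases hm with e | e | e | e | e | e <;> subst e
      · have hg1 : g = 1 := by
          rw [← orderOf_eq_one_iff, hord]; rfl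
        subst hg1
        rw [inv_one, hd, orbWeight, Subgroup.coe_one, outFix_one ho, if_pos rfl]
        push_cast
        ring
      · have hv : (orderOf g = 3) := hord.trans (by decide)
        rw [orbWeight_eq ho hg (hthree g hv r hgr).2 htype, ha3 g hv r hgr,
          ha3 g⁻¹ (by rw [orderOf_inv]; exact hv) r (by
            rw [Subgroup.coe_inv]; exact (g : Equiv.Perm GolayPt).symm_apply_eq.2 hgr.symm),
          if_neg (by decide), if_pos rfl]
        norm_num
        ring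
      · have hv : (orderOf g = 3) := hord.trans (by decide)
        rw [orbWeight_eq ho hg (hthree g hv r hgr).2 htype, ha3 g hv r hgr,
          ha3 g⁻¹ (by rw [orderOf_inv]; exact hv) r (by
            rw [Subgroup.coe_inv]; exact (g : Equiv.Perm GolayPt).symm_apply_eq.2 hgr.symm),
          if_neg (by decide), if_neg (by decide), if_pos rfl]
        norm_num
        ring
      · have hv : (orderOf g = 5) := hord.trans (by decide)
        rw [orbWeight_eq ho hg (five_fixed_card g.2 (hgo.trans (by decide))) htype, ha5 g hv,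
          ha5 g⁻¹ (by rw [orderOf_inv]; exact hv), if_neg (by decide), if_neg (by decide), if_neg (by decide),
          if_pos rfl]
        norm_num
        ring
      · have hv : (orderOf g = 7) := hord.trans (by decide)
        rw [orbWeight_eq ho hg (seven_fixed_card g.2 (hgo.trans (by decide))) htype,
          if_neg (by decide), if_neg (by decide), if_neg (by decide), if_neg (by decide), if_pos rfl, value_inv hχ,
          ← hc7]
        rcases hval g7 g (hg7 g hg hv) with hvv | hvv <;> rw [hvv]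
        · norm_num; ring
        · rw [Complex.conj_conj]; norm_num; ring
      · have hv : (orderOf g = 15) := hord.trans (by decide)
        rw [orbWeight_eq ho hg (fifteen_data g.2 (hgo.trans (by decide))).1 htype,
          if_neg (by decide), if_neg (by decide), if_neg (by decide), if_neg (by decide), if_neg (by decide),
          value_inv hχ, ← he15]
        rcases hval gF g (hgF g hg hv) with hvv | hvv <;> rw [hvv]
        · norm_num; ring
        · rw [Complex.conj_conj]; norm_num; ring)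
  have hcount : ∀ m ∈ oddTypes, Nat.card {σ : Equiv.Perm ↥(toSet baseOctad) // σ.cycleType = m ∧ True} =
      if m = 0 then 1 else if m = {3} then 112 else if m = {3, 3} then 1120 else if m = {5} then 1344 else
        if m = {7} then 5760 else 2688 := by
    intro m hm
    simp only [and_true, card_type, Fintype.card_coe, ho.2]
    revert m
    decide +kernel
  rw [Finset.sum_congr rfl (fun m hm => by rw [hcount m hm]), oddTypes_sum] at heq
  simp only [show ({3} : Multiset ℕ) ≠ 0 by decide, show ({3, 3} : Multiset ℕ) ≠ 0 by decide,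
    show ({3, 3} : Multiset ℕ) ≠ {3} by decide, show ({5} : Multiset ℕ) ≠ 0 by decide,
    show ({5} : Multiset ℕ) ≠ {3} by decide, show ({5} : Multiset ℕ) ≠ {3, 3} by decide,
    show ({7} : Multiset ℕ) ≠ 0 by decide, show ({7} : Multiset ℕ) ≠ {3} by decide,
    show ({7} : Multiset ℕ) ≠ {3, 3} by decide, show ({7} : Multiset ℕ) ≠ {5} by decide,
    show ({3, 5} : Multiset ℕ) ≠ 0 by decide, show ({3, 5} : Multiset ℕ) ≠ {3} by decide,
    show ({3, 5} : Multiset ℕ) ≠ {3, 3} by decide, show ({3, 5} : Multiset ℕ) ≠ {5} by decide,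
    show ({3, 5} : Multiset ℕ) ≠ {7} by decide, if_true, if_false] at heq
  have heqZ : (1024 * k : ℤ) + 6272 * a + 21504 * a5 + 23040 * c7 + 21504 * e15 = 0 := by
    have h' : ((((1024 * k : ℤ) + 6272 * a + 21504 * a5 + 23040 * c7 + 21504 * e15) : ℤ) : ℂ) = 0 := by
      push_cast at heq ⊢
      linear_combination heq
    exact_mod_cast h'
  push_cast at h3dvd h5dvd d7 hb5
  norm_num at h3dvd h5dvd d7
  refine m24_arith (k := (k : ℤ)) (a := a) (b := b) (h := h) (e := e15) hk3 (by omega) (by omega)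
    (by constructor <;> nlinarith) (by omega) (by push_cast at hz2; constructor <;> nlinarith) hodd
    (by push_cast at he2; constructor <;> nlinarith) (by omega) (by omega)

/-- Involutions are constrained. -/
theorem m24_constrained (t : ↥M24) (ht : orderOf t = 2) : InConstrained t := by
  by_cases h0 : ∀ p, (t : Equiv.Perm GolayPt) p ≠ p
  · exact constrained_fpf t ht h0
  · exact constrained_octad le_rfl t (eight_fixed_octad t.2 (by rw [Subgroup.orderOf_coe]; exact ht)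
      fun h => h0 (fixed_card_zero_iff.1 h)) fun e he => (mem_octFix.1 he).1

end CfsgLib.MathieuBlocks
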