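import Cfsg.Agent.Lib.M24Cert.OctadAction
import Cfsg.Agent.Lib.M24Cert.Classes

/-!
# The elementary abelian subgroup of an octad stabiliser and sums over the stabiliser
-/

set_option autoImplicit false
set_option linter.unusedSectionVars false

open Cfsg CfsgLib.Golay CfsgLib.M24Cert

open scoped Pointwise

noncomputable section

namespace CfsgLib.MathieuBlocks

/-- The pointwise stabiliser of an octad. -/
def octFix (o : Finset GolayPt) : Subgroup (Equiv.Perm GolayPt) :=
  M24 ⊓ fixingSubgroup (Equiv.Perm GolayPt) (o : Set GolayPt)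

theorem mem_octFix {o : Finset GolayPt} {g : Equiv.Perm GolayPt} :
    g ∈ octFix o ↔ g ∈ M24 ∧ ∀ x ∈ o, g x = x := by
  simp [octFix, Subgroup.mem_inf, mem_fixingSubgroup_iff, Equiv.Perm.smul_def]

theorem octFix_sq {o : Finset GolayPt} (ho : o ∈ octads) {e : Equiv.Perm GolayPt} (he : e ∈ octFix o) :
    e * e = 1 := (octad_pointwise ho).2 e he

theorem octFix_comm {o : Finset GolayPt} (ho : o ∈ octads) {e f : Equiv.Perm GolayPt}
    (he : e ∈ octFix o) (hf : f ∈ octFix o) : e * f = f * e := by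
  have h1 := inv_eq_of_mul_eq_one_right (octFix_sq ho he)
  have h2 := inv_eq_of_mul_eq_one_right (octFix_sq ho hf)
  have h3 := inv_eq_of_mul_eq_one_right (octFix_sq ho (mul_mem he hf))
  rw [mul_inv_rev, h1, h2] at h3
  exact h3.symm

theorem octFix_le_octStab {o : Finset GolayPt} : octFix o ≤ octStab o := by
  intro g hg
  obtain ⟨hm, hx⟩ := mem_octFix.1 hg
  refine mem_octStab.2 ⟨hm, Finset.eq_of_subset_of_card_le (fun y hy => ?_) (by rw [Finset.card_smul_finset])⟩
  obtain ⟨x, hxo, rfl⟩ := Finset.mem_smul_finset.1 hy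
  rwa [Equiv.Perm.smul_def, hx x hxo]

theorem octFix_conj {o : Finset GolayPt} {l e : Equiv.Perm GolayPt} (hl : l ∈ octStab o)
    (he : e ∈ octFix o) : l * e * l⁻¹ ∈ octFix o := by
  refine mem_octFix.2 ⟨mul_mem (mul_mem (mem_octStab.1 hl).1 (mem_octFix.1 he).1)
    (inv_mem (mem_octStab.1 hl).1), fun x hx => ?_⟩
  rw [Equiv.Perm.mul_apply, Equiv.Perm.mul_apply, (mem_octFix.1 he).2 _ ((octStab_apply (inv_mem hl) x).2 hx)]
  simp

theorem octFix_apply_eq {o : Finset GolayPt} (ho : o ∈ octads) {r : GolayPt} (hr : r ∉ o)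
    {e f : Equiv.Perm GolayPt} (he : e ∈ octFix o) (hf : f ∈ octFix o) (h : e r = f r) : e = f := by
  have h1 : f⁻¹ * e = 1 := by
    refine octPointStab_fix ho hr (mem_octFix.1 (mul_mem (inv_mem hf) he)).1
      (mem_octFix.1 (mul_mem (inv_mem hf) he)).2 ?_
    rw [Equiv.Perm.mul_apply, h]
    simp
  exact (inv_mul_eq_one.1 h1).symm

theorem octFix_exists {o : Finset GolayPt} (ho : o ∈ octads) {r q : GolayPt} (hr : r ∉ o) (hq : q ∉ o) :
    ∃ e ∈ octFix o, e r = q := by
  classical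
  let f : ↥(octFix o) → ↥(oᶜ) := fun e => ⟨e.1 r, Finset.mem_compl.2 fun h =>
    hr ((octStab_apply (octFix_le_octStab e.2) r).1 h)⟩
  have hinj : Function.Injective f := fun a b e =>
    Subtype.ext (octFix_apply_eq ho hr a.2 b.2 (congrArg Subtype.val e))
  have hbij : Function.Bijective f := by
    refine (Fintype.bijective_iff_injective_and_card f).2 ⟨hinj, ?_⟩
    rw [← Nat.card_eq_fintype_card, show Nat.card ↥(octFix o) = 16 from (octad_pointwise ho).1,
      Fintype.card_coe, Finset.card_compl, Fintype.card_congr ptEquiv, Fintype.card_fin, ho.2]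
  obtain ⟨e, he⟩ := hbij.2 ⟨q, Finset.mem_compl.2 hq⟩
  exact ⟨e.1, e.2, congrArg Subtype.val he⟩

/-- The pointwise stabiliser of an octad is self-centralising in the stabiliser of the octad. -/
theorem octFix_centralizer {o : Finset GolayPt} (ho : o ∈ octads) {g : Equiv.Perm GolayPt}
    (hg : g ∈ octStab o) (hc : ∀ e ∈ octFix o, g * e = e * g) : g ∈ octFix o := by
  classical
  obtain ⟨r, hr⟩ : ∃ r, r ∉ o := by
    by_contra h
    push Not at h
    have := Finset.card_le_card (fun x _ => h x : (Finset.univ : Finset GolayPt) ⊆ o)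
    rw [Finset.card_univ, Fintype.card_congr ptEquiv, Fintype.card_fin, ho.2] at this
    omega
  have hgr : g r ∉ o := fun h => hr ((octStab_apply hg r).1 h)
  obtain ⟨e, he, her⟩ := octFix_exists ho hr hgr
  set h := e * g with hh
  have hfix : ∀ q, q ∉ o → h q = q := by
    intro q hq
    obtain ⟨f, hf, rfl⟩ := octFix_exists ho hr hq
    have h0 : h r = r := by
      rw [hh, Equiv.Perm.mul_apply, ← her, ← Equiv.Perm.mul_apply, octFix_sq ho he, Equiv.Perm.one_apply]
    have hcf : h * f = f * h := by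
      rw [hh, mul_assoc, hc f hf, ← mul_assoc, octFix_comm ho he hf, mul_assoc]
    rw [← Equiv.Perm.mul_apply, hcf, Equiv.Perm.mul_apply, h0]
  have h1 : h = 1 := by
    by_contra hne
    have hle := fixed_le_eight (mul_mem (mem_octFix.1 he).1 (mem_octStab.1 hg).1) hne
    have hsub : oᶜ ⊆ Finset.univ.filter fun p => h p = p := fun q hq =>
      Finset.mem_filter.2 ⟨Finset.mem_univ _, hfix q (Finset.mem_compl.1 hq)⟩
    have := (Finset.card_le_card hsub).trans hle
    rw [Finset.card_compl, Fintype.card_congr ptEquiv, Fintype.card_fin, ho.2] at this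
    omega
  have hge : g = e := by
    have := eq_inv_of_mul_eq_one_right h1
    rw [this, inv_eq_of_mul_eq_one_right (octFix_sq ho he)]
  exact hge ▸ he

/-- The points outside the octad fixed by an element. -/
def outFix (o : Finset GolayPt) (k : Equiv.Perm GolayPt) : ℕ :=
  (Finset.univ.filter fun p => p ∉ o ∧ k p = p).card

/-- The number of `octFix`-conjugates of an element fixing an outside point. -/
def orbWeight (o : Finset GolayPt) (k : Equiv.Perm GolayPt) : ℕ := 16 / outFix o k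

section Sum

variable {o : Finset GolayPt} (ho : o ∈ octads) {r : GolayPt} (hr : r ∉ o)
  {Γ : Subgroup (Equiv.Perm GolayPt)} (hΓ : Γ ≤ M24) (hE : octFix o ≤ Γ)

include ho hr hΓ hE

/-- The sum of a class function vanishing at elements of even order over the octad stabiliser. -/
theorem sum_octStab [Fintype ↥((octStab o).subgroupOf Γ)] [Fintype ↥((octPointStab o r).subgroupOf Γ)]
    (χ : ↥Γ → ℂ) (hcl : ∀ g h : ↥Γ, χ (h * g * h⁻¹) = χ g) (hvan : ∀ g : ↥Γ, 2 ∣ orderOf g → χ g = 0) :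
    ∑ h : ↥((octStab o).subgroupOf Γ), χ h =
      ∑ k : ↥((octPointStab o r).subgroupOf Γ), (orbWeight o ((k : ↥Γ) : Equiv.Perm GolayPt) : ℂ) * χ k := by
  classical
  letI : Fintype ↥(octFix o) := Fintype.ofFinite _
  set K := (octPointStab o r).subgroupOf Γ
  have hKs : ∀ k : ↥K, ((k : ↥Γ) : Equiv.Perm GolayPt) ∈ octStab o := fun k => k.2.1
  have hKr : ∀ k : ↥K, ((k : ↥Γ) : Equiv.Perm GolayPt) r = r := fun k => k.2.2
  let incl : ↥(octFix o) → ↥Γ := fun e => ⟨e.1, hE e.2⟩
  let f : ↥K × ↥(octFix o) → ↥((octStab o).subgroupOf Γ) := fun p =>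
    ⟨incl p.2 * (p.1 : ↥Γ), mul_mem (octFix_le_octStab p.2.2) (hKs p.1)⟩
  have hf : Function.Bijective f := by
    refine ⟨fun a b h => ?_, fun g => ?_⟩
    · have h' : (a.2 : Equiv.Perm GolayPt) * ((a.1 : ↥Γ) : Equiv.Perm GolayPt) =
          (b.2 : Equiv.Perm GolayPt) * ((b.1 : ↥Γ) : Equiv.Perm GolayPt) :=
        congrArg (fun z : ↥((octStab o).subgroupOf Γ) => ((z : ↥Γ) : Equiv.Perm GolayPt)) h
      have he : a.2 = b.2 := Subtype.ext (octFix_apply_eq ho hr a.2.2 b.2.2 (by
        have := Equiv.ext_iff.1 h' r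
        rwa [Equiv.Perm.mul_apply, Equiv.Perm.mul_apply, hKr, hKr] at this))
      rw [he] at h'
      exact Prod.ext (Subtype.ext (Subtype.ext (mul_left_cancel h'))) he
    · set g' : Equiv.Perm GolayPt := ((g : ↥Γ) : Equiv.Perm GolayPt)
      have hg : g' ∈ octStab o := g.2
      obtain ⟨e, he, her⟩ := octFix_exists ho hr (fun h => hr ((octStab_apply hg r).1 h))
      have hk : e * g' ∈ octPointStab o r := by
        refine ⟨mul_mem (octFix_le_octStab he) hg, ?_⟩
        show (e * g') r = r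
        rw [Equiv.Perm.mul_apply, ← her, ← Equiv.Perm.mul_apply, octFix_sq ho he, Equiv.Perm.one_apply]
      refine ⟨(⟨⟨e * g', mul_mem (hE he) (g : ↥Γ).2⟩, hk⟩, ⟨e, he⟩), Subtype.ext (Subtype.ext ?_)⟩
      show e * (e * g') = g'
      rw [← mul_assoc, octFix_sq ho he, one_mul]
  rw [← (Equiv.ofBijective f hf).sum_comp fun h : ↥((octStab o).subgroupOf Γ) => χ h, Fintype.sum_prod_type]
  refine Finset.sum_congr (Finset.ext fun _ => by simp only [Finset.mem_univ]) fun k _ => ?_
  show ∑ e : ↥(octFix o), χ (incl e * (k : ↥Γ)) = _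
  set κ : Equiv.Perm GolayPt := ((k : ↥Γ) : Equiv.Perm GolayPt) with hκ
  -- powers restricted to the octad
  have hmod : ∀ (e : ↥(octFix o)) (j : ℕ),
      ((e : Equiv.Perm GolayPt) * κ) ^ j = 1 → κ ^ j = 1 := by
    intro e j hj
    have hon : ∀ i : ℕ, ∀ x ∈ o, (((e : Equiv.Perm GolayPt) * κ) ^ i) x = (κ ^ i) x := by
      intro i
      induction i with
      | zero => intro x _; rfl
      | succ i ih =>
        intro x hx
        rw [pow_succ', pow_succ', Equiv.Perm.mul_apply, Equiv.Perm.mul_apply, Equiv.Perm.mul_apply,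
          (mem_octFix.1 e.2).2 _ ((octStab_apply (hKs k) _).2 ?_), ih x hx]
        rw [ih x hx]
        exact (octStab_apply (pow_mem (hKs k) i) x).2 hx
    refine octPointStab_fix ho hr (pow_mem (mem_octStab.1 (hKs k)).1 j) (fun x hx => ?_) ?_
    · rw [← hon j x hx, hj, Equiv.Perm.one_apply]
    · exact Equiv.Perm.pow_apply_eq_self_of_apply_eq_self (hKr k) j
  by_cases hev : 2 ∣ orderOf (k : ↥Γ)
  · rw [hvan _ hev, mul_zero]
    refine Finset.sum_eq_zero fun e _ => hvan _ ?_
    refine hev.trans ?_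
    rw [← Subgroup.orderOf_coe, ← Subgroup.orderOf_coe]
    exact orderOf_dvd_of_pow_eq_one (hmod e _ (pow_orderOf_eq_one _))
  -- odd order
  have hodd : Odd (orderOf κ) := by
    rw [hκ, Subgroup.orderOf_coe]
    exact Nat.not_even_iff_odd.1 fun h => hev (even_iff_two_dvd.1 h)
  let c : ↥(octFix o) → ↥(octFix o) := fun e => ⟨κ * e * κ⁻¹, octFix_conj (hKs k) e.2⟩
  let φ : ↥(octFix o) →* ↥(octFix o) := MonoidHom.mk' (fun e => e * c e) fun a b => by
    refine Subtype.ext ?_
    show (a : Equiv.Perm GolayPt) * b * (κ * (a * b) * κ⁻¹) = a * (κ * a * κ⁻¹) * (b * (κ * b * κ⁻¹))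
    have hb := octFix_comm ho b.2 (octFix_conj (hKs k) a.2)
    calc (a : Equiv.Perm GolayPt) * b * (κ * (a * b) * κ⁻¹)
        = a * ((b : Equiv.Perm GolayPt) * (κ * a * κ⁻¹)) * (κ * b * κ⁻¹) := by group
      _ = a * ((κ * a * κ⁻¹) * b) * (κ * b * κ⁻¹) := by rw [hb]
      _ = a * (κ * a * κ⁻¹) * (b * (κ * b * κ⁻¹)) := by group
  have hin : ∀ e ∈ φ.range, χ (incl e * (k : ↥Γ)) = χ k := by
    rintro _ ⟨a, rfl⟩
    rw [← hcl (k : ↥Γ) (incl a)]
    congr 1
    refine Subtype.ext ?_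
    show (a : Equiv.Perm GolayPt) * (κ * a * κ⁻¹) * κ = a * κ * (a : Equiv.Perm GolayPt)⁻¹
    rw [inv_eq_of_mul_eq_one_right (octFix_sq ho a.2)]
    group
  have hout : ∀ e, e ∉ φ.range → χ (incl e * (k : ↥Γ)) = 0 := by
    intro e he
    refine hvan _ ?_
    by_contra hnd
    apply he
    set y : Equiv.Perm GolayPt := (e : Equiv.Perm GolayPt) * κ with hy
    have hyo : Odd (orderOf y) := by
      have : orderOf y = orderOf (incl e * (k : ↥Γ)) := by
        rw [← Subgroup.orderOf_coe]; rfl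
      rw [this]
      exact Nat.not_even_iff_odd.1 fun h => hnd (even_iff_two_dvd.1 h)
    have htel : ∀ j : ℕ, ∃ a : ↥(octFix o),
        y ^ (2 * j + 1) * (κ ^ (2 * j + 1))⁻¹ = ((e * φ a : ↥(octFix o)) : Equiv.Perm GolayPt) := by
      intro j
      induction j with
      | zero => exact ⟨1, by rw [map_one, mul_one, Nat.mul_zero, zero_add, pow_one, pow_one, hy, mul_inv_cancel_right]⟩
      | succ j ih =>
        obtain ⟨a, ha⟩ := ih
        set t := κ ^ (2 * j + 1) with ht
        let b : ↥(octFix o) := ⟨t * e * t⁻¹, octFix_conj (pow_mem (hKs k) _) e.2⟩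
        refine ⟨a * b, ?_⟩
        rw [map_mul, ← mul_assoc, Subgroup.coe_mul, ← ha]
        have e1 : y ^ (2 * (j + 1) + 1) = y ^ (2 * j + 1) * (y * y) := by
          rw [← pow_two, ← pow_add]; ring_nf
        have e2 : κ ^ (2 * (j + 1) + 1) = t * (κ * κ) := by
          rw [ht, ← pow_two, ← pow_add]; ring_nf
        have e3 : κ * t = t * κ := (Commute.self_pow κ _).eq
        rw [e1, e2]
        show _ = y ^ (2 * j + 1) * t⁻¹ * ((t * e * t⁻¹) * (κ * (t * e * t⁻¹) * κ⁻¹))
        rw [hy]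
        calc _ = ((e : Equiv.Perm GolayPt) * κ) ^ (2 * j + 1) * ((e : Equiv.Perm GolayPt) * κ * e) * κ⁻¹ * t⁻¹ := by group
          _ = ((e : Equiv.Perm GolayPt) * κ) ^ (2 * j + 1) * ((e : Equiv.Perm GolayPt) * (t⁻¹ * (t * κ)) * e) * (κ⁻¹ * t⁻¹) := by group
          _ = ((e : Equiv.Perm GolayPt) * κ) ^ (2 * j + 1) * ((e : Equiv.Perm GolayPt) * (t⁻¹ * (κ * t)) * e) * (κ⁻¹ * t⁻¹) := by rw [e3]
          _ = ((e : Equiv.Perm GolayPt) * κ) ^ (2 * j + 1) * ((e : Equiv.Perm GolayPt) * (t⁻¹ * κ * t) * e) * (t * κ)⁻¹ := by group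
          _ = ((e : Equiv.Perm GolayPt) * κ) ^ (2 * j + 1) * ((e : Equiv.Perm GolayPt) * (t⁻¹ * κ * t) * e) * (κ * t)⁻¹ := by rw [e3]
          _ = _ := by group
    obtain ⟨a, ha⟩ : ∃ a : ↥(octFix o),
        y ^ orderOf y * (κ ^ orderOf y)⁻¹ = ((e * φ a : ↥(octFix o)) : Equiv.Perm GolayPt) := by
      obtain ⟨j, hj⟩ := hyo
      rw [hj]; exact htel j
    rw [pow_orderOf_eq_one, hmod e _ (pow_orderOf_eq_one y), inv_one, mul_one] at ha
    have h1 : e * φ a = 1 := Subtype.ext ha.symm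
    exact inv_mem_iff.1 ⟨a, (inv_eq_of_mul_eq_one_right h1).symm⟩
  rw [← Finset.sum_filter_add_sum_filter_not Finset.univ (fun e => e ∈ φ.range),
    Finset.sum_congr rfl (fun e he => hin e (Finset.mem_filter.1 he).2),
    Finset.sum_eq_zero (s := Finset.univ.filter fun e => ¬ e ∈ φ.range) (fun e he => hout e (Finset.mem_filter.1 he).2),
    add_zero, Finset.sum_const, nsmul_eq_mul]
  congr 2
  rw [← Fintype.card_subtype, ← Nat.card_eq_fintype_card]
  have hker : Nat.card ↥φ.ker = outFix o κ := by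
    rw [outFix, ← Fintype.card_subtype, ← Nat.card_eq_fintype_card]
    have hmem : ∀ a : ↥(octFix o), a ∈ φ.ker ↔ κ * (a : Equiv.Perm GolayPt) = a * κ := by
      intro a
      have hcoe : ((φ a : ↥(octFix o)) : Equiv.Perm GolayPt) = a * (κ * a * κ⁻¹) := rfl
      rw [MonoidHom.mem_ker, Subtype.ext_iff, hcoe, Subgroup.coe_one, mul_eq_one_iff_eq_inv']
      have ha := inv_eq_of_mul_eq_one_right (octFix_sq ho a.2)
      constructor
      · intro h
        rw [ha] at h
        calc κ * (a : Equiv.Perm GolayPt) = κ * a * κ⁻¹ * κ := by group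
          _ = a * κ := by rw [h]
      · intro h
        rw [ha, h, mul_inv_cancel_right]
    refine Nat.card_eq_of_bijective (fun a => ⟨(a.1 : Equiv.Perm GolayPt) r, ?_, ?_⟩) ⟨fun a b h => ?_, fun q => ?_⟩
    · exact fun h => hr ((octStab_apply (octFix_le_octStab a.1.2) r).1 h)
    · rw [← Equiv.Perm.mul_apply, (hmem a.1).1 a.2, Equiv.Perm.mul_apply, hKr]
    · exact Subtype.ext (Subtype.ext (octFix_apply_eq ho hr a.1.2 b.1.2 (congrArg Subtype.val h)))
    · obtain ⟨a, ha, har⟩ := octFix_exists ho hr q.2.1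
      have hak : κ * a = a * κ := by
        have h1 : κ * a * κ⁻¹ = a := by
          refine octFix_apply_eq ho hr (octFix_conj (hKs k) ha) ha ?_
          rw [Equiv.Perm.mul_apply, Equiv.Perm.mul_apply,
            show κ⁻¹ r = r from κ.symm_apply_eq.2 (hKr k).symm, har]
          exact q.2.2
        conv_rhs => rw [← h1]
        group
      exact ⟨⟨⟨a, ha⟩, (hmem _).2 hak⟩, Subtype.ext har⟩
  have hmul := φ.ker.card_mul_index
  rw [Subgroup.index_ker, hker, show Nat.card ↥(octFix o) = 16 from (octad_pointwise ho).1] at hmul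
  have hpos : 0 < outFix o κ := hker ▸ Nat.card_pos
  rw [orbWeight, ← hmul, Nat.mul_div_cancel_left _ hpos]

end Sum

end CfsgLib.MathieuBlocks
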