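import Cfsg.Agent.Lib.MathieuBlocks.Octad
import Cfsg.Agent.Lib.MathieuBlocks.Alt
import Cfsg.Agent.Lib.MathieuBlocks.Values
import Cfsg.Agent.Lib.MathieuBlocks.General
import Cfsg.Agent.Lib.Blocks.Functional
import Cfsg.Agent.Lib.M24Cert.ClassFacts

/-!
# The octad equation, and values at elements of one conjugacy class of prime order
-/

set_option autoImplicit false
set_option linter.unusedSectionVars false
set_option linter.style.haveILetI false

open Cfsg CfsgLib.Golay CfsgLib.M24Cert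

open scoped Pointwise ComplexConjugate

noncomputable section

namespace CfsgLib.MathieuBlocks

/-- The permutation of the octad induced by an element fixing the octad and a point outside. -/
def octRes {o : Finset GolayPt} {r : GolayPt} {g : Equiv.Perm GolayPt} (hg : g ∈ octPointStab o r) :
    Equiv.Perm ↥o := resHom o ⟨g, hg.1⟩

theorem octRes_apply {o : Finset GolayPt} {r : GolayPt} {g : Equiv.Perm GolayPt} (hg : g ∈ octPointStab o r)
    (x : ↥o) : ((octRes hg x : ↥o) : GolayPt) = g x := rfl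

theorem outFix_inv (o : Finset GolayPt) (g : Equiv.Perm GolayPt) : outFix o g⁻¹ = outFix o g := by
  refine congrArg Finset.card (Finset.filter_congr fun p _ => and_congr_right fun _ => ?_)
  exact ⟨fun h => by conv_lhs => rw [← h]
                     simp, fun h => g.symm_apply_eq.2 h.symm⟩

theorem outFix_one {o : Finset GolayPt} (ho : o ∈ octads) : outFix o 1 = 16 := by
  rw [outFix, show (Finset.univ.filter fun p => p ∉ o ∧ (1 : Equiv.Perm GolayPt) p = p) = oᶜ by ext p; simp,
    Finset.card_compl, Fintype.card_congr ptEquiv, Fintype.card_fin, ho.2]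

/-- The outside fixed points, from the number of fixed points and the type on the octad. -/
theorem outFix_eq {o : Finset GolayPt} (ho : o ∈ octads) {r : GolayPt} {g : Equiv.Perm GolayPt}
    (hg : g ∈ octPointStab o r) {t : ℕ} (ht : (Finset.univ.filter fun p => g p = p).card = t) :
    outFix o g + 8 = t + (octRes hg).cycleType.sum := by
  classical
  have h1 : (o.filter fun p => g p = p).card + (octRes hg).cycleType.sum = 8 := by
    rw [Equiv.Perm.sum_cycleType]
    have h2 : (octRes hg).support.card = (o.filter fun p => ¬ g p = p).card := by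
      refine Finset.card_bij (fun x _ => x.1) (fun x hx => ?_) (fun a _ b _ e => Subtype.ext e) fun p hp => ?_
      · rw [Equiv.Perm.mem_support] at hx
        exact Finset.mem_filter.2 ⟨x.2, fun e => hx (Subtype.ext e)⟩
      · obtain ⟨h1, h2⟩ := Finset.mem_filter.1 hp
        exact ⟨⟨p, h1⟩, Equiv.Perm.mem_support.2 fun e => h2 (congrArg Subtype.val e), rfl⟩
    rw [h2, Finset.card_filter_add_card_filter_not, ho.2]
  have h3 : (o.filter fun p => g p = p).card + outFix o g = t := by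
    rw [← ht, outFix, ← Finset.card_filter_add_card_filter_not
      (s := Finset.univ.filter fun p => g p = p) (fun p => p ∈ o), Finset.filter_filter, Finset.filter_filter]
    congr 2 <;> ext p <;> simp [and_comm]
  omega

theorem orbWeight_eq {o : Finset GolayPt} (ho : o ∈ octads) {r : GolayPt} {g : Equiv.Perm GolayPt}
    (hg : g ∈ octPointStab o r) {t : ℕ} (ht : (Finset.univ.filter fun p => g p = p).card = t)
    {m : Multiset ℕ} (hm : (octRes hg).cycleType = m) : orbWeight o g = 16 / (t + m.sum - 8) := by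
  have := outFix_eq ho hg ht
  rw [hm] at this
  rw [orbWeight, ← this, Nat.add_sub_cancel]

/-- The octad equation. -/
theorem octad_equation {o : Finset GolayPt} (ho : o ∈ octads) {r : GolayPt} (hr : r ∉ o)
    {Γ : Subgroup (Equiv.Perm GolayPt)} (hΓ : Γ ≤ M24) (hE : octFix o ≤ Γ)
    [Fintype ↥((octStab o).subgroupOf Γ)]
    (χ : ↥Γ → ℂ) (hcl : ∀ g h : ↥Γ, χ (h * g * h⁻¹) = χ g) (hvan : ∀ g : ↥Γ, 2 ∣ orderOf g → χ g = 0)
    (hzero : ∑ h : ↥((octStab o).subgroupOf Γ), χ h = 0)
    (Q : Equiv.Perm ↥o → Prop) [DecidablePred Q]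
    (hQ : ∀ (g : Equiv.Perm GolayPt) (hg : g ∈ octPointStab o r), g ∈ Γ → Q (octRes hg))
    (hQ' : ∀ (g : Equiv.Perm GolayPt) (hg : g ∈ octPointStab o r), Q (octRes hg) → g ∈ Γ)
    (wv : Multiset ℕ → ℂ)
    (hval : ∀ (g : ↥Γ) (hg : (g : Equiv.Perm GolayPt) ∈ octPointStab o r) (m : Multiset ℕ), m ∈ oddTypes →
      (octRes hg).cycleType = m → orderOf g = m.lcm →
      (orbWeight o (g : Equiv.Perm GolayPt) : ℂ) * (χ g + χ g⁻¹) = 2 * wv m) :
    ∑ m ∈ oddTypes, (Nat.card {σ : Equiv.Perm ↥o // σ.cycleType = m ∧ Q σ} : ℂ) * wv m = 0 := by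
  classical
  letI : Fintype ↥((octPointStab o r).subgroupOf Γ) := Fintype.ofFinite _
  rw [sum_octStab ho hr hΓ hE χ hcl hvan] at hzero
  obtain ⟨hinj, hrange⟩ := octPointStab_restrict ho hr
  set R := (resHom o).comp (Subgroup.inclusion (inf_le_left : octPointStab o r ≤ octStab o)) with hR
  let ρ : ↥((octPointStab o r).subgroupOf Γ) → Equiv.Perm ↥o := fun k => octRes k.2
  have hρR : ∀ k : ↥((octPointStab o r).subgroupOf Γ), ρ k = R ⟨_, k.2⟩ := fun k => rfl
  have hρinj : Function.Injective ρ := fun a b e => by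
    have := hinj (show R ⟨_, a.2⟩ = R ⟨_, b.2⟩ from e)
    exact Subtype.ext (Subtype.ext (congrArg Subtype.val this :))
  have hord : ∀ k : ↥((octPointStab o r).subgroupOf Γ), orderOf (k : ↥Γ) = (ρ k).cycleType.lcm := by
    intro k
    rw [Equiv.Perm.lcm_cycleType, hρR, orderOf_injective R hinj, ← Subgroup.orderOf_coe (k : ↥Γ)]
    exact orderOf_injective (octPointStab o r).subtype Subtype.val_injective ⟨_, k.2⟩
  have h8 : Fintype.card ↥o ≤ 8 := by rw [Fintype.card_coe, ho.2]
  have hsum2 : ∑ k : ↥((octPointStab o r).subgroupOf Γ), (orbWeight o ((k : ↥Γ) : Equiv.Perm GolayPt) : ℂ) * χ ((k : ↥Γ))⁻¹ = 0 := by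
    rw [← Equiv.sum_comp (Equiv.inv ↥((octPointStab o r).subgroupOf Γ)) fun k : ↥((octPointStab o r).subgroupOf Γ) =>
      (orbWeight o ((k : ↥Γ) : Equiv.Perm GolayPt) : ℂ) * χ ((k : ↥Γ))⁻¹]
    refine (Finset.sum_congr rfl fun k _ => ?_).trans hzero
    simp only [Equiv.inv_apply, Subgroup.coe_inv, inv_inv, orbWeight, outFix_inv]
  have h := sum_types ρ hρinj oddTypes Q (fun k => hQ _ k.2 (k : ↥Γ).2)
    (fun σ hσ hQσ => by
      have hmem : σ ∈ R.range := by
        rw [hrange, Equiv.Perm.mem_alternatingGroup]; exact sign_of_mem_oddTypes hσ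
      obtain ⟨⟨g, hg⟩, e⟩ := hmem
      have e' : octRes hg = σ := e
      exact ⟨⟨⟨g, hQ' g hg (e' ▸ hQσ)⟩, hg⟩, e⟩)
    (fun m => 2 * wv m)
    (fun k => (orbWeight o ((k : ↥Γ) : Equiv.Perm GolayPt) : ℂ) * (χ k + χ ((k : ↥Γ))⁻¹))
    (fun k => by
      split_ifs with hk
      · exact hval _ k.2 _ hk rfl (hord k)
      · have hev : 2 ∣ orderOf (k : ↥Γ) := by
          by_contra hnd
          refine hk (cycleType_mem_oddTypes h8 ?_)
          rw [← Equiv.Perm.lcm_cycleType, ← hord]
          exact Nat.not_even_iff_odd.1 fun h => hnd (even_iff_two_dvd.1 h)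
        rw [hvan _ hev, hvan _ (by rwa [orderOf_inv]), add_zero, mul_zero])
  simp only [mul_add, Finset.sum_add_distrib] at h
  rw [hzero, hsum2, add_zero] at h
  have h2 : (2 : ℂ) * ∑ m ∈ oddTypes, (Nat.card {σ : Equiv.Perm ↥o // σ.cycleType = m ∧ Q σ} : ℂ) * wv m = 0 := by
    rw [Finset.mul_sum, h]
    exact Finset.sum_congr rfl fun m _ => by ring
  simpa using h2

theorem oddTypes_sum (F : Multiset ℕ → ℂ) :
    ∑ m ∈ oddTypes, F m = F 0 + F {3} + F {3, 3} + F {5} + F {7} + F {3, 5} := by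
  rw [oddTypes, Finset.sum_insert (by decide), Finset.sum_insert (by decide), Finset.sum_insert (by decide),
    Finset.sum_insert (by decide), Finset.sum_insert (by decide), Finset.sum_singleton]
  ring

section Char

variable {G : Type*} [Group G] [Fintype G] {χ : G → ℂ} (hχ : Cfsg.IsIrrCharacter G χ)

include hχ

/-- The value on a single class of elements of prime order is an integer. -/
theorem int_value {n : ℕ} (hn : n.Prime) {d : ℕ} (hd : χ 1 = d) {x : G} (hx : orderOf x = n)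
    (hconj : ∀ g : G, orderOf g = n → IsConj x g) :
    ∃ a : ℤ, (∀ g : G, orderOf g = n → χ g = a) ∧ (n : ℤ) ∣ (d : ℤ) + ((n : ℤ) - 1) * a := by
  have hcl := CfsgLib.Char.isClassFunction_of_isIrr hχ
  have hv : ∀ g : G, orderOf g = n → χ g = χ x := fun g hg => by
    obtain ⟨c, hc⟩ := isConj_iff.1 (hconj g hg)
    rw [← hc]; exact hcl x c
  obtain ⟨m, hm⟩ := sum_powers hχ x
  rw [hx, Finset.range_eq_Ico, ← Finset.insert_Ico_succ_left_eq_Ico hn.pos,
    Finset.sum_insert (by simp), pow_zero, hd,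
    Finset.sum_congr rfl (g := fun _ => χ x) (fun i hi => hv _ ?_), Finset.sum_const, nsmul_eq_mul] at hm
  · have e : (((n : ℤ) - 1 : ℤ) : ℂ) * χ x = (((n : ℤ) * m - d : ℤ) : ℂ) := by
      simp only [Nat.card_Ico, Nat.succ_eq_add_one, Order.succ_eq_add_one, zero_add] at hm
      have h1 : 1 ≤ n := hn.pos
      push_cast [Nat.cast_sub h1] at hm ⊢
      linear_combination hm
    obtain ⟨a, ha⟩ := int_of_mul_eq (CfsgLib.Char.char_isIntegral (CfsgLib.Char.isCharacter_of_isIrr hχ) x)
      (sub_ne_zero.2 (by exact_mod_cast hn.one_lt.ne')) e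
    refine ⟨a, fun g hg => (hv g hg).trans ha, m, ?_⟩
    rw [ha] at e
    have e' : ((n : ℤ) - 1) * a = (n : ℤ) * m - d := by exact_mod_cast e
    rw [e']; ring
  · rw [Finset.mem_Ico, Order.succ_eq_add_one] at hi
    rw [orderOf_pow' _ (by omega), hx, Nat.Coprime.gcd_eq_one, Nat.div_one]
    exact (hn.coprime_iff_not_dvd).2 fun h => absurd (Nat.le_of_dvd (by omega) h) (by omega)

/-- The bound at an element whose centraliser is small. -/
theorem sq_add_one_le (h1 : χ 1 ≠ 1) {x : G} {a : ℤ} (ha : χ x = a) {c : ℕ}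
    (hc : Nat.card (Subgroup.centralizer ({x} : Set G)) ≤ c) : a ^ 2 + 1 ≤ (c : ℤ) := by
  have h := normSq_add_one_le hχ h1 x
  rw [ha, Complex.normSq_intCast] at h
  have h2 : (Nat.card (Subgroup.centralizer ({x} : Set G)) : ℝ) ≤ c := by exact_mod_cast hc
  have h3 : ((a ^ 2 + 1 : ℤ) : ℝ) ≤ ((c : ℤ) : ℝ) := by push_cast; linarith [sq (a : ℝ)]
  exact_mod_cast h3

end Char

theorem conj_smul_fixed {c t : Equiv.Perm GolayPt} (h : c * t = t * c) :
    c • (Finset.univ.filter fun p => t p = p) = Finset.univ.filter fun p => t p = p := by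
  rw [← conj_fixed_set, h, mul_inv_cancel_right]

theorem eight_fixed_octad {t : Equiv.Perm GolayPt} (ht : t ∈ M24) (h2 : orderOf t = 2)
    (h8 : (Finset.univ.filter fun p => t p = p).card ≠ 0) :
    (Finset.univ.filter fun p => t p = p) ∈ octads := by
  obtain ⟨u, hu, ⟨-, h0⟩ | ⟨e, -⟩⟩ := inv_cases ht h2
  · exact absurd h0 h8
  · rw [e, conj_fixed_set]
    exact wordsOfWeight_smul hu elU_fixed_octad

/-- An involution fixing an octad is constrained. -/
theorem constrained_octad {Γ : Subgroup (Equiv.Perm GolayPt)} (hΓ : Γ ≤ M24) (t : ↥Γ)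
    (ho : (Finset.univ.filter fun p => (t : Equiv.Perm GolayPt) p = p) ∈ octads)
    (hE : octFix (Finset.univ.filter fun p => (t : Equiv.Perm GolayPt) p = p) ≤ Γ) : InConstrained t := by
  set o := Finset.univ.filter fun p => (t : Equiv.Perm GolayPt) p = p
  refine ⟨(octStab o).subgroupOf Γ, (octFix o).subgroupOf Γ, fun c hc => ?_, fun f hf => ?_, ?_, ?_, ?_⟩
  · refine Subgroup.mem_subgroupOf.2 (mem_octStab.2 ⟨hΓ c.2, conj_smul_fixed ?_⟩)
    exact congrArg Subtype.val (Subgroup.mem_centralizer_singleton_iff.1 hc)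
  · exact Subgroup.mem_subgroupOf.2 (octFix_le_octStab (Subgroup.mem_subgroupOf.1 hf))
  · haveI : Fact (Nat.Prime 2) := ⟨Nat.prime_two⟩
    exact IsPGroup.of_equiv (IsPGroup.of_card (n := 4) (octad_pointwise ho).1)
      (Subgroup.subgroupOfEquivOfLe hE).symm
  · exact fun l hl f hf => Subgroup.mem_subgroupOf.2
      (octFix_conj (Subgroup.mem_subgroupOf.1 hl) (Subgroup.mem_subgroupOf.1 hf))
  · exact fun l hl hc => Subgroup.mem_subgroupOf.2 (octFix_centralizer ho (Subgroup.mem_subgroupOf.1 hl)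
      fun e he => congrArg Subtype.val (hc ⟨e, hE he⟩ (Subgroup.mem_subgroupOf.2 he)))

/-- A group without an irreducible character of 2-defect zero, from the values. -/
theorem exists_degree {G : Type*} [Group G] [Fintype G] {a r : ℕ} (hcard : Nat.card G = 2 ^ a * r)
    (hr : ¬ 2 ∣ r) (ha : a ≠ 0) (χ : IrrCharacter G) (h : 2 ^ (Nat.card G).factorization 2 ∣ charDegree (χ : G → ℂ)) :
    ∃ k : ℕ, (χ : G → ℂ) 1 = ((2 ^ a * k : ℕ) : ℂ) ∧ k ∣ r ∧ 2 ^ a * k ≠ 1 ∧
      (2 ^ a * k) * (2 ^ a * k) < 2 ^ a * r ∧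
      ∀ g : G, 2 ∣ orderOf g → (χ : G → ℂ) g = 0 := by
  haveI : Fact (Nat.Prime 2) := ⟨Nat.prime_two⟩
  have hr0 : r ≠ 0 := fun e => hr (e ▸ dvd_zero 2)
  have hf : (Nat.card G).factorization 2 = a := by
    rw [hcard, Nat.factorization_mul (by positivity) hr0, Finsupp.add_apply,
      Nat.Prime.factorization_pow Nat.prime_two, Finsupp.single_eq_same,
      Nat.factorization_eq_zero_of_not_dvd hr, add_zero]
  rw [hf] at h
  obtain ⟨k, hk⟩ := h
  have hd : (χ : G → ℂ) 1 = ((2 ^ a * k : ℕ) : ℂ) := by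
    rw [CfsgLib.Blocks.charDegree_eq (CfsgLib.Char.isCharacter_of_isIrr χ.2), hk]
  have hdvd : 2 ^ a * k ∣ 2 ^ a * r := by
    rw [← hk, ← hcard]; exact CfsgLib.CharBlocks.charDegree_dvd_card χ.2
  have hne : 2 ^ a * k ≠ 1 := fun e => by
    have := Nat.dvd_one.1 (e ▸ (dvd_pow_self 2 ha).trans (dvd_mul_right (2 ^ a) k))
    omega
  refine ⟨k, hd, Nat.dvd_of_mul_dvd_mul_left (by positivity) hdvd, hne, ?_, fun g hg => ?_⟩
  · rw [← hcard]; exact degree_sq_lt χ.2 hd hne
  · refine CfsgLib.Char.vanish_of_defect_zero χ.2 Nat.prime_two (n := a) ?_ ?_ hd (dvd_mul_right _ _) hg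
    · rw [hcard]; exact dvd_mul_right _ _
    · rw [hcard, pow_succ]
      exact fun h => hr (Nat.dvd_of_mul_dvd_mul_left (by positivity) h)

end CfsgLib.MathieuBlocks
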